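import Cfsg.Agent.Omega.FOne.NOv.Split

/-!
# THEOREM AB (helper937, bb OMEGA #20929), part (7)

A transvection `g` of `W / y` whose centre has swapped lifts, `w` a vector whose orbit generates `W` modulo `y`:
`g` swaps the lifts of an element of the orbit of `w`.

* `swaps` : `Base H y`, `g ∈ H`, `IsTv H y g`, `w` not killed by all functionals of the block: some `h ∈ H` with
  `g (h w) = h w + y`;
* `not_nsw` : (7), for a generating orbit;
* `ax_bot` : `Sw`, `Ax`, `PTv` and (NSW) give `A = 1`.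
-/

set_option autoImplicit false
set_option linter.unusedSectionVars false

namespace Cfsg.Agent.Omega.NO3S.FarQ.AB

open Subgroup Cfsg
open Cfsg.Agent.Omega.FOne.Tvw
open Cfsg.Agent.Omega.FOne.NOv (Sw Ax PTv)

section

variable {W : Type*} [AddCommGroup W] [Module (ZMod 2) W] [Finite W] {H : Subgroup (W ≃ₗ[ZMod 2] W)} {y : W}

/-- the elements of the frame are transitive on the nonzero coordinates -/
theorem exists_cd {Θ : Set W} (h : FOne.Tvw.Hyp H y Θ) {t1 t2 t3 : W} {p1 p2 p3 : W →ₗ[ZMod 2] ZMod 2}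
    (F : Fr H y Θ t1 t2 t3 p1 p2 p3) {w : W} (hw : Fr.cd p1 p2 p3 w ≠ 0) {c : T3} (hc : c ≠ 0) :
    ∃ k ∈ H, Fr.cd p1 p2 p3 (k w) = c := by
  by_cases e : Fr.cd p1 p2 p3 w = c
  · exact ⟨1, H.one_mem, e⟩
  have hu : Fr.cd p1 p2 p3 w + c ≠ 0 := fun h0 => e (t3add _ _ h0)
  have hne : Fr.cd p1 p2 p3 w + c ≠ Fr.cd p1 p2 p3 w := fun h0 => hc (by simpa using h0)
  obtain ⟨κ, k1, k2⟩ := dec4 _ _ hu hw hne
  obtain ⟨d, k, hk, hkw⟩ := F.st h hu k1
  refine ⟨k, hk, ?_⟩
  rw [hkw w, Fr.cd_add, Fr.cd_add, Fr.cd_smul, Fr.cd_smul, F.cd_y h, smul_zero, add_zero, pv_apply,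
    show dot κ (p1 w, p2 w, p3 w) = 1 from k2, one_smul,
    show Fr.cd p1 p2 p3 (tv t1 t2 t3 (Fr.cd p1 p2 p3 w + c)) = _ from F.coord _, ← add_assoc, t3self, zero_add]

/-- **(7)**, one vector -/
theorem swaps (b : Base H y) {g : W ≃ₗ[ZMod 2] W} (hg : g ∈ H) {θ : W} {f d : W →ₗ[ZMod 2] ZMod 2}
    (θ0 : θ ≠ 0) (θy : θ ≠ y) (hf : f ≠ 0) (e : ∀ w, g w = w + f w • θ + d w • y) (hs : ∃ h ∈ H, h θ = θ + y)
    {w0 : W} (gen : ∀ U : Submodule (ZMod 2) W, y ∈ U → (∀ h ∈ H, h w0 ∈ U) → U = ⊤) :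
    ∃ h ∈ H, g (h w0) = h w0 + y := by
  have h := b.hyp θ0 θy hs
  obtain ⟨t2, t3, p1, p2, p3, F⟩ := h.exists_fr (θ := θ) ⟨1, H.one_mem, rfl⟩ ⟨g, hg, e⟩ hf
  have hΘ : θ ∈ {ρ | ∃ h ∈ H, h θ = ρ} := ⟨1, H.one_mem, rfl⟩
  have cθ : Fr.cd p1 p2 p3 θ ≠ 0 := by
    intro h0
    have h1 : p1 θ = 0 := congrArg Prod.fst h0
    rw [F.a11] at h1
    exact one_ne_zero h1
  obtain ⟨k, rfl, hk⟩ := F.eq_pv h hΘ cθ ⟨g, hg, e⟩
  have k0 : k ≠ 0 := by
    rintro rfl
    exact hf (pv_zero p1 p2 p3)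
  obtain ⟨k', rfl, k'0, k'k, -⟩ := F.d_eq h hΘ cθ k0 ⟨g, hg, e⟩
  obtain ⟨c, c1, c2⟩ := dec9 k k' ⟨k0, k'0, k'k.symm⟩ 0 1
  have c0 : c ≠ 0 := by
    rintro rfl
    rw [dot_zero] at c2
    exact zero_ne_one c2
  -- a conjugate of `w0` with nonzero coordinates
  obtain ⟨h1, hh1, hw1⟩ : ∃ h1 ∈ H, Fr.cd p1 p2 p3 (h1 w0) ≠ 0 := by
    by_contra hcon
    push Not at hcon
    let U : Submodule (ZMod 2) W :=
      { carrier := {w | Fr.cd p1 p2 p3 w = 0}
        zero_mem' := by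
          have := Fr.cd_smul (p1 := p1) (p2 := p2) (p3 := p3) 0 θ
          rw [zero_smul, zero_smul] at this
          exact this
        add_mem' := fun {a c} ha hc => by
          change Fr.cd p1 p2 p3 (a + c) = 0
          rw [Fr.cd_add, show Fr.cd p1 p2 p3 a = 0 from ha, show Fr.cd p1 p2 p3 c = 0 from hc, add_zero]
        smul_mem' := fun c w hw => by
          change Fr.cd p1 p2 p3 (c • w) = 0
          rw [Fr.cd_smul, show Fr.cd p1 p2 p3 w = 0 from hw, smul_zero] }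
    have hU : U = ⊤ := gen U (F.cd_y h) fun g hg => hcon g hg
    have : θ ∈ U := by rw [hU]; exact Submodule.mem_top
    exact cθ this
  obtain ⟨h2, hh2, hw2⟩ := exists_cd h F hw1 c0
  refine ⟨h2 * h1, H.mul_mem hh2 hh1, ?_⟩
  rw [LinearEquiv.mul_apply, e, pv_apply, pv_apply,
    show (p1 (h2 (h1 w0)), p2 (h2 (h1 w0)), p3 (h2 (h1 w0))) = c from hw2, c1, c2, zero_smul, one_smul, add_zero]

/-- **(7)** -/
theorem not_nsw (b : Base H y) {g : W ≃ₗ[ZMod 2] W} (hg : g ∈ H) (ht : IsTv H y g) {w0 : W}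
    (gen : ∀ U : Submodule (ZMod 2) W, y ∈ U → (∀ h ∈ H, h w0 ∈ U) → U = ⊤)
    (nsw : ∀ h ∈ H, g (h w0) ≠ h w0 + y) : False := by
  obtain ⟨θ, f, d, θ0, θy, hf, e, hs⟩ := ht
  obtain ⟨h, hh, hw⟩ := swaps b hg θ0 θy hf e hs gen
  exact nsw h hh hw

end

universe u

/-- **(6) (d) + (7)** : `Sw`, `Ax`, `PTv` and (NSW) give `A = 1` -/
theorem ax_bot (hP : PTv.{u}) {W : Type u} [AddCommGroup W] [Module (ZMod 2) W] [Finite W]
    {H : Subgroup (W ≃ₗ[ZMod 2] W)} {y : W} {T N A : Subgroup (W ≃ₗ[ZMod 2] W)} {L : Submodule (ZMod 2) W}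
    (S : Sw H y T N L) (X : Ax y N A)
    (nsw : ∀ a ∈ A, ∀ h ∈ H, ∀ v ∈ L, v ≠ 0 → v ≠ y → a (h v) ≠ h v + y) : A = ⊥ := by
  by_contra hne
  obtain ⟨g, hgA, hgt⟩ := hP W H y T N A L S X hne
  -- a generator of `L` modulo `y`
  obtain ⟨l, hl, hlL⟩ : ∃ l ∈ L, (l ≠ 0 ∧ l ≠ y) ∧ ∀ v ∈ L, v = 0 ∨ v = y ∨ v = l ∨ v = l + y := by
    obtain ⟨l, hl, l0, ly⟩ : ∃ l ∈ L, l ≠ 0 ∧ l ≠ y := by
      by_contra hcon
      push Not at hcon
      classical
      have h1 : (L : Set W) ⊆ (({0, y} : Finset W) : Set W) := by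
        intro v hv
        by_cases h0 : v = 0
        · simp [h0]
        · simp [hcon v hv h0]
      have h2 := Set.ncard_le_ncard h1 (Finset.finite_toSet _)
      rw [Set.ncard_coe_finset] at h2
      have h3 : (L : Set W).ncard = 4 := S.card
      have h4 := Finset.card_le_two (a := (0 : W)) (b := y)
      omega
    refine ⟨l, hl, ⟨l0, ly⟩, fun v hv => ?_⟩
    classical
    have h1 : (({0, y, l, l + y} : Finset W) : Set W) ⊆ (L : Set W) := by
      intro x hx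
      simp only [Finset.coe_insert, Finset.coe_singleton, Set.mem_insert_iff, Set.mem_singleton_iff] at hx
      rcases hx with rfl | rfl | rfl | rfl
      · exact L.zero_mem
      · exact S.yL
      · exact hl
      · exact L.add_mem hl S.yL
    have hc : ({0, y, l, l + y} : Finset W).card = 4 := by
      have n1 : (0 : W) ∉ ({y, l, l + y} : Finset W) := by
        simp only [Finset.mem_insert, Finset.mem_singleton]
        rintro (h | h | h)
        · exact S.base.y0 h.symm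
        · exact l0 h.symm
        · exact ly (eq_of_add_eq_zero' h.symm)
      have n2 : y ∉ ({l, l + y} : Finset W) := by
        simp only [Finset.mem_insert, Finset.mem_singleton]
        rintro (h | h)
        · exact ly h.symm
        · exact l0 (by simpa using h.symm)
      have n3 : l ∉ ({l + y} : Finset W) := by
        simp only [Finset.mem_singleton]
        intro h
        exact S.base.y0 (by simpa using h.symm)
      rw [Finset.card_insert_of_notMem n1, Finset.card_insert_of_notMem n2, Finset.card_insert_of_notMem n3,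
        Finset.card_singleton]
    have h3 : (L : Set W).ncard = 4 := S.card
    have h2 := Set.eq_of_subset_of_ncard_le h1 (by rw [Set.ncard_coe_finset, hc, h3]) (Set.toFinite _)
    have h4 : v ∈ (({0, y, l, l + y} : Finset W) : Set W) := by rw [h2]; exact hv
    simpa using h4
  refine not_nsw S.base (S.NH (X.AN hgA)) hgt (w0 := l) (fun U hy hU => S.gen U fun h hh v hv => ?_)
    fun h hh => nsw g hgA h hh l hl hlL.1.1 hlL.1.2
  rcases hlL.2 v hv with rfl | rfl | rfl | rfl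
  · rw [map_zero]; exact U.zero_mem
  · rw [S.base.fix h hh]; exact hy
  · exact hU h hh
  · rw [map_add, S.base.fix h hh]; exact U.add_mem (hU h hh) hy

end Cfsg.Agent.Omega.NO3S.FarQ.AB
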