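import Cfsg.Agent.Omega.NO3S.FarQ.AB.Sit
import Cfsg.Agent.Omega.NO3S.FarQ.AB.Tvw
import Cfsg.Agent.Omega.FOne.NOv.Plug

/-!
# THEOREM AB (helper937, bb OMEGA #20929), part (6) (d): `Sw` and `Ax`

* `Lv ψ y m T Q A` : `Γ` acts on `U = W_1`, `U = ⟨y, m^Γ⟩`, with (c), (NSW), the counts;
* `Lv.sw`, `Lv.ax` : the image satisfies `NOv.Sw`, `NOv.Ax`;
* `Lv.bot` : `A` acts trivially (from MLK, `PTv`).
-/

set_option autoImplicit false
set_option linter.unusedSectionVars false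

namespace Cfsg.Agent.Omega.NO3S.FarQ.AB

open Subgroup Cfsg
open Cfsg.Agent.Omega.FOne.Tvw (Base IsTv z2 addself)
open Cfsg.Agent.Omega.FOne.NOv (Sw Ax PTv MEx WEx)

universe u

section aux

/-- a normal 2-subgroup lies in every Sylow 2-subgroup -/
theorem le_of_normal_two {X : Type*} [Group X] [Finite X] {H N T : Subgroup X} (hN : N ≤ H)
    (hn : ∀ h ∈ H, ∀ n ∈ N, h * n * h⁻¹ ∈ N) (hN2 : IsPGroup 2 N) (hTH : T ≤ H) (hT2 : IsPGroup 2 T)
    (hT : ¬ 2 ∣ T.relIndex H) : N ≤ T := by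
  have : Fact (Nat.Prime 2) := ⟨Nat.prime_two⟩
  have hNn : (N.subgroupOf H).Normal := by
    refine ⟨fun n hn' g => ?_⟩
    rw [mem_subgroupOf] at hn' ⊢
    exact hn g g.2 n hn'
  have h1 : IsPGroup 2 (N.subgroupOf H) := hN2.of_equiv (subgroupOfEquivOfLe hN).symm
  have h2 : IsPGroup 2 (T.subgroupOf H) := hT2.of_equiv (subgroupOfEquivOfLe hTH).symm
  have h3 : IsPGroup 2 ((N.subgroupOf H ⊔ T.subgroupOf H : Subgroup H)) := h1.to_sup_of_normal_left h2
  obtain ⟨k, hk⟩ := (IsPGroup.iff_card (p := 2)).mp h3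
  have h4 : (T.subgroupOf H).relIndex (N.subgroupOf H ⊔ T.subgroupOf H) ∣ 2 ^ k := by
    rw [← hk]; exact relIndex_dvd_card _ _
  have h5 : (T.subgroupOf H).relIndex (N.subgroupOf H ⊔ T.subgroupOf H) ∣ T.relIndex H :=
    relIndex_dvd_index_of_le le_sup_right
  obtain ⟨j, -, hj⟩ := (Nat.dvd_prime_pow Nat.prime_two).mp h4
  rcases Nat.eq_zero_or_pos j with rfl | hj0
  · rw [pow_zero, relIndex_eq_one] at hj
    intro n hn'
    have : (⟨n, hN hn'⟩ : H) ∈ T.subgroupOf H := hj (mem_sup_left (mem_subgroupOf.mpr hn'))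
    exact mem_subgroupOf.mp this
  · exfalso
    apply hT
    rw [hj] at h5
    exact (dvd_pow_self 2 hj0.ne').trans h5

variable {U : Type*} [AddCommGroup U] [Module (ZMod 2) U]

/-- `{0, y, m, m + y}` -/
def lm (y m : U) : Submodule (ZMod 2) U where
  carrier := {w | w = 0 ∨ w = y ∨ w = m ∨ w = m + y}
  zero_mem' := Or.inl rfl
  add_mem' := by
    have e1 : ∀ a b : U, a + (b + a) = b := fun a b => by
      calc a + (b + a) = b + (a + a) := by abel
        _ = b := by rw [addself, add_zero]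
    have e2 : ∀ a b : U, a + b + a = b := fun a b => by
      calc a + b + a = b + (a + a) := by abel
        _ = b := by rw [addself, add_zero]
    have e3 : ∀ a b : U, a + (a + b) = b := fun a b => by
      calc a + (a + b) = b + (a + a) := by abel
        _ = b := by rw [addself, add_zero]
    rintro a b (rfl | rfl | rfl | rfl) (rfl | rfl | rfl | rfl) <;>
      simp only [Set.mem_ofPred_eq, zero_add, add_zero, addself, true_or, or_true, e1, e2, e3, addy]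
    · right; right; right; abel
  smul_mem' := by
    intro c w hw
    rcases z2 c with rfl | rfl
    · rw [zero_smul]; exact Or.inl rfl
    · rw [one_smul]; exact hw

theorem mem_lm {y m w : U} : w ∈ lm y m ↔ w = 0 ∨ w = y ∨ w = m ∨ w = m + y := Iff.rfl

theorem card_lm {y m : U} (y0 : y ≠ 0) (m0 : m ≠ 0) (my : m ≠ y) : Nat.card (lm y m) = 4 := by
  classical
  have h1 : ((lm y m : Submodule (ZMod 2) U) : Set U) = (({0, y, m, m + y} : Finset U) : Set U) := by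
    ext w
    simp only [Finset.coe_insert, Finset.coe_singleton, Set.mem_insert_iff, Set.mem_singleton_iff]
    exact Iff.rfl
  have hc : ({0, y, m, m + y} : Finset U).card = 4 := by
    have n1 : (0 : U) ∉ ({y, m, m + y} : Finset U) := by
      simp only [Finset.mem_insert, Finset.mem_singleton]
      rintro (h | h | h)
      · exact y0 h.symm
      · exact m0 h.symm
      · exact my (FOne.Tvw.eq_of_add_eq_zero' h.symm)
    have n2 : y ∉ ({m, m + y} : Finset U) := by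
      simp only [Finset.mem_insert, Finset.mem_singleton]
      rintro (h | h)
      · exact my h.symm
      · exact m0 (by simpa using h.symm)
    have n3 : m ∉ ({m + y} : Finset U) := by
      simp only [Finset.mem_singleton]
      intro h
      exact y0 (by simpa using h.symm)
    rw [Finset.card_insert_of_notMem n1, Finset.card_insert_of_notMem n2, Finset.card_insert_of_notMem n3,
      Finset.card_singleton]
  have h2 : Nat.card (lm y m) = ((lm y m : Submodule (ZMod 2) U) : Set U).ncard := rfl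
  rw [h2, h1, Set.ncard_coe_finset, hc]

end aux

variable {Γ : Type u} [Group Γ] {U : Type u} [AddCommGroup U] [Module (ZMod 2) U]

/-- `Γ` acts on `U = W_1`. -/
structure Lv (ψ : Γ →* (U ≃ₗ[ZMod 2] U)) (y m : U) (T Q A : Subgroup Γ) : Prop where
  kn : IsKGroupWith IsKnownSimple' ψ.range
  y0 : y ≠ 0
  m0 : m ≠ 0
  my : m ≠ y
  fixy : ∀ g, ψ g y = y
  span : ∀ W : Submodule (ZMod 2) U, y ∈ W → (∀ g, ψ g m ∈ W) → W = ⊤
  faith : ∀ κ, (∀ g, E2 y (ψ κ (ψ g m)) (ψ g m)) → ∀ g, ψ κ (ψ g m) = ψ g m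
  nsw : ∀ f ∈ A, ∀ g, E2 y (ψ f (ψ g m)) (ψ g m) → ψ f (ψ g m) = ψ g m
  T2 : ∀ t ∈ T, ∃ n : ℕ, ψ t ^ 2 ^ n = 1
  syl : ¬ 2 ∣ T.index
  fixT : ∀ v, (∀ t ∈ T, ψ t v = v) → v = 0 ∨ v = y
  Tm : ∀ t ∈ T, E2 y (ψ t m) m
  AQ : A ≤ Q
  Q2 : IsPGroup 2 Q
  Qn : ∀ g, E2 y (ψ g m) m → ∀ q ∈ Q, g * q * g⁻¹ ∈ Q
  Am : ∀ a ∈ A, ψ a m = m
  sq : ∀ a ∈ A, a * a = 1
  quad : ∀ a ∈ A, ∀ b ∈ A, ∀ w, ψ b (ψ a w + w) = ψ a w + w
  cnt : Nat.card U ≤ Nat.card (A.map ψ) * Nat.card {v : U // ∀ a ∈ A, E2 y (ψ a v) v}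
  cfix : ∀ v, (∀ a ∈ A, E2 y (ψ a v) v) → ∀ a ∈ A, ψ a v = v

namespace Lv

variable [Finite U] {ψ : Γ →* (U ≃ₗ[ZMod 2] U)} {y m : U} {T Q A : Subgroup Γ} (Λ : Lv ψ y m T Q A)
include Λ

omit [Finite U] in
theorem eq_one {κ : Γ} (h : ∀ g, E2 y (ψ κ (ψ g m)) (ψ g m)) : ψ κ = 1 := by
  let W : Submodule (ZMod 2) U :=
    { carrier := {w | ψ κ w = w}
      zero_mem' := map_zero _
      add_mem' := fun {a b} ha hb => by
        change ψ κ (a + b) = a + b
        rw [map_add, show ψ κ a = a from ha, show ψ κ b = b from hb]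
      smul_mem' := fun c w hw => by
        change ψ κ (c • w) = c • w
        rw [map_smul, show ψ κ w = w from hw] }
  have hW := Λ.span W (Λ.fixy κ) (Λ.faith κ h)
  ext w
  have : w ∈ W := by rw [hW]; exact Submodule.mem_top
  exact this

omit [Finite U] in
theorem base_aux : y ≠ 0 ∧ (∀ h ∈ ψ.range, h y = y) ∧
    (∀ h ∈ ψ.range, (∀ w, h w = w ∨ h w = w + y) → h = 1) := by
  refine ⟨Λ.y0, ?_, ?_⟩
  · rintro _ ⟨g, rfl⟩
    exact Λ.fixy g
  · rintro _ ⟨κ, rfl⟩ h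
    exact Λ.eq_one fun g => h _

theorem two : IsPGroup 2 (T.map ψ) := by
  rintro ⟨_, t, ht, rfl⟩
  obtain ⟨n, hn⟩ := Λ.T2 t ht
  exact ⟨n, Subtype.ext hn⟩

theorem syl' : ¬ 2 ∣ (T.map ψ).relIndex ψ.range := by
  have h1 : (T.map ψ).relIndex ψ.range ∣ T.index := by
    rw [MonoidHom.range_eq_map, relIndex_map_map, top_sup_eq, relIndex_top_right]
    exact index_dvd_of_le le_sup_left
  exact fun h2 => Λ.syl (h2.trans h1)

theorem base : Base ψ.range y where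
  y0 := Λ.y0
  fix := Λ.base_aux.2.1
  faith := Λ.base_aux.2.2
  core := by
    intro N hN hn hp
    have hfin : Finite (U ≃ₗ[ZMod 2] U) := DFunLike.finite _
    have hNT : N ≤ T.map ψ := le_of_normal_two hN hn hp (by rintro _ ⟨t, -, rfl⟩; exact ⟨t, rfl⟩) Λ.two Λ.syl'
    rw [eq_bot_iff]
    intro n hn'
    rw [mem_bot]
    obtain ⟨κ, rfl⟩ := hN hn'
    refine Λ.eq_one fun g => ?_
    have h1 : (ψ g⁻¹) * ψ κ * (ψ g⁻¹)⁻¹ ∈ N := hn _ ⟨g⁻¹, rfl⟩ _ hn'
    obtain ⟨t, ht, e⟩ := hNT h1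
    have h2 := (Λ.Tm t ht).map Λ.fixy g
    rw [e] at h2
    have e2 : ψ g ((ψ g⁻¹ * ψ κ * (ψ g⁻¹)⁻¹) m) = ψ κ (ψ g m) := by
      rw [← map_inv, inv_inv]
      change ψ g (ψ g⁻¹ (ψ κ (ψ g m))) = _
      rw [hinv']
    rwa [e2] at h2

omit [Finite U] in
theorem gen' : ∀ W : Submodule (ZMod 2) U, (∀ h ∈ ψ.range, ∀ v ∈ lm y m, h v ∈ W) → W = ⊤ := by
  intro W hW
  refine Λ.span W ?_ fun g => hW _ ⟨g, rfl⟩ m (Or.inr (Or.inr (Or.inl rfl)))
  have := hW 1 (one_mem _) y (Or.inr (Or.inl rfl))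
  exact this

omit [Finite U] in
theorem TL' : ∀ t ∈ T.map ψ, ∀ v ∈ lm y m, t v ∈ lm y m := by
  rintro _ ⟨t, ht, rfl⟩ v hv
  have h1 : ψ t m ∈ lm y m := by
    rcases Λ.Tm t ht with h | h <;> rw [h]
    · exact Or.inr (Or.inr (Or.inl rfl))
    · exact Or.inr (Or.inr (Or.inr rfl))
  rcases hv with rfl | rfl | rfl | rfl
  · rw [map_zero]; exact Submodule.zero_mem _
  · rw [Λ.fixy]; exact Or.inr (Or.inl rfl)
  · exact h1
  · rw [map_add, Λ.fixy]
    exact Submodule.add_mem _ h1 (Or.inr (Or.inl rfl))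

omit [Finite U] in
theorem inj' {g : Γ} : ψ g m ≠ 0 ∧ ψ g m ≠ y := by
  constructor
  · intro h
    rw [← map_zero (ψ g)] at h
    exact Λ.m0 ((ψ g).injective h)
  · intro h
    rw [← Λ.fixy g] at h
    exact Λ.my ((ψ g).injective h)

omit [Finite U] in
/-- an element which normalises `{0, y, m, m + y}` fixes `m` modulo `y` -/
theorem fix_of {g : Γ} (h : ∀ v ∈ lm y m, ψ g v ∈ lm y m) : E2 y (ψ g m) m := by
  rcases h m (Or.inr (Or.inr (Or.inl rfl))) with h1 | h1 | h1 | h1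
  · exact absurd h1 Λ.inj'.1
  · exact absurd h1 Λ.inj'.2
  · exact Or.inl h1
  · exact Or.inr h1

/-- the elements of `Q` which fix `m` -/
def qm (ψ : Γ →* (U ≃ₗ[ZMod 2] U)) (m : U) (Q : Subgroup Γ) : Subgroup Γ where
  carrier := {g | g ∈ Q ∧ ψ g m = m}
  one_mem' := ⟨one_mem _, by rw [map_one]; rfl⟩
  mul_mem' := fun {a b} ha hb => ⟨mul_mem ha.1 hb.1, by rw [hmul, hb.2, ha.2]⟩
  inv_mem' := fun {a} ha => ⟨inv_mem ha.1, by
    conv_lhs => rw [← ha.2]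
    exact hinv ψ a m⟩

theorem sw (hML : ML.Final.MLK.{u, u}) :
    Sw ψ.range y (T.map ψ) ((qm ψ m Q).map ψ) (lm y m) := by
  have hTH : T.map ψ ≤ ψ.range := by rintro _ ⟨t, -, rfl⟩; exact ⟨t, rfl⟩
  exact
    { known := Λ.kn
      base := Λ.base
      TH := hTH
      two := Λ.two
      syl := Λ.syl'
      fixT := fun w hw => Λ.fixT w fun t ht => hw _ ⟨t, ht, rfl⟩
      card := card_lm Λ.y0 Λ.m0 Λ.my
      yL := Or.inr (Or.inl rfl)
      TL := Λ.TL'
      swap := by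
        have key : ∃ t ∈ T, ψ t m = m + y := by
          by_contra hcon
          push Not at hcon
          rcases Λ.fixT m fun t ht => (Λ.Tm t ht).resolve_right (hcon t ht) with h | h
          · exact Λ.m0 h
          · exact Λ.my h
        obtain ⟨t, ht, e⟩ := key
        rintro v (rfl | rfl | rfl | rfl) h0 hy
        · exact absurd rfl h0
        · exact absurd rfl hy
        · exact ⟨_, ⟨t, ht, rfl⟩, e⟩
        · exact ⟨_, ⟨t, ht, rfl⟩, by rw [map_add, e, Λ.fixy]⟩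
      gen := Λ.gen'
      NH := by rintro _ ⟨t, -, rfl⟩; exact ⟨t, rfl⟩
      N2 := by
        rintro ⟨_, q, hq, rfl⟩
        obtain ⟨n, hn⟩ := Λ.Q2 ⟨q, hq.1⟩
        refine ⟨n, Subtype.ext ?_⟩
        have h1 : q ^ 2 ^ n = 1 := congrArg Subtype.val hn
        change ψ q ^ 2 ^ n = 1
        rw [← map_pow, h1, map_one]
      NL := by
        rintro _ ⟨q, hq, rfl⟩ v (rfl | rfl | rfl | rfl)
        · exact map_zero _
        · exact Λ.fixy q
        · exact hq.2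
        · rw [map_add, hq.2, Λ.fixy]
      Nn := by
        rintro _ ⟨g, rfl⟩ hg _ ⟨q, hq, rfl⟩
        have h1 := Λ.fix_of hg
        refine ⟨g * q * g⁻¹, ⟨Λ.Qn g h1 q hq.1, ?_⟩, by rw [map_mul, map_mul, map_inv]⟩
        rw [hmul, hmul]
        have h2 : E2 y (ψ g⁻¹ m) m := by
          have := h1.map Λ.fixy g⁻¹
          rw [hinv] at this
          exact this.symm
        have h3 : ψ q (ψ g⁻¹ m) = ψ g⁻¹ m := by
          rcases h2 with h2 | h2 <;> rw [h2]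
          · exact hq.2
          · rw [map_add, hq.2, Λ.fixy]
        rw [h3, hinv']
      no := fun Q' hQH hQ hQL hQn B hB hB2 =>
        FOne.NOv.no_of hML Λ.kn Λ.base hTH Λ.two Λ.syl' (card_lm Λ.y0 Λ.m0 Λ.my) (Or.inr (Or.inl rfl)) Λ.TL' Λ.gen'
          hQH hQ hQL hQn hB hB2 }

theorem ax (hML : ML.Final.MLK.{u, u}) : Ax y ((qm ψ m Q).map ψ) (A.map ψ) := by
  have S := Λ.sw hML
  have hAN : A.map ψ ≤ (qm ψ m Q).map ψ := by
    rintro _ ⟨a, ha, rfl⟩
    exact ⟨a, ⟨Λ.AQ ha, Λ.Am a ha⟩, rfl⟩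
  have hsq : ∀ a ∈ A.map ψ, a * a = 1 := by
    rintro _ ⟨a, ha, rfl⟩
    rw [← map_mul, Λ.sq a ha, map_one]
  have hcm : ∀ v, v ∈ FOne.NOv.cm y (A.map ψ) ↔ ∀ a ∈ A, E2 y (ψ a v) v := by
    intro v
    constructor
    · intro h a ha
      exact h _ ⟨a, ha, rfl⟩
    · rintro h _ ⟨a, ha, rfl⟩
      exact h a ha
  have hcard : Nat.card (FOne.NOv.cm y (A.map ψ)) = Nat.card {v : U // ∀ a ∈ A, E2 y (ψ a v) v} :=
    Nat.card_congr (Equiv.subtypeEquivRight hcm)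
  refine ⟨hAN, hsq, ?_, ?_, ?_⟩
  · rintro _ ⟨a, ha, rfl⟩ _ ⟨b, hb, rfl⟩ w
    exact Λ.quad a ha b hb w
  · refine le_antisymm ?_ ?_
    · exact S.no ((qm ψ m Q).map ψ) S.NH S.N2 (fun n hn v hv => by rw [S.NL n hn v hv]; exact hv) S.Nn _ hAN hsq
    · rw [hcard]; exact Λ.cnt
  · rintro w hw _ ⟨a, ha, rfl⟩
    exact Λ.cfix w ((hcm w).mp hw) a ha

/-- **(6) + (7)** -/
theorem bot (hML : ML.Final.MLK.{u, u}) (hP : PTv.{u}) {a : Γ} (ha : a ∈ A) : ψ a = 1 := by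
  have key : A.map ψ = ⊥ := by
    refine ax_bot hP (Λ.sw hML) (Λ.ax hML) ?_
    rintro _ ⟨f, hf, rfl⟩ _ ⟨g, rfl⟩ v hv v0 vy
    have h1 : ψ f (ψ g m) ≠ ψ g m + y := by
      intro h
      have h2 := Λ.nsw f hf g (Or.inr h)
      rw [h2] at h
      exact Λ.y0 (by simpa using h.symm)
    rcases hv with rfl | rfl | rfl | rfl
    · exact absurd rfl v0
    · exact absurd rfl vy
    · exact h1
    · intro h
      apply h1
      rw [map_add, map_add, Λ.fixy, Λ.fixy] at h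
      exact add_right_cancel h
  have : ψ a ∈ A.map ψ := ⟨a, ha, rfl⟩
  rw [key] at this
  exact mem_bot.mp this

end Lv

end Cfsg.Agent.Omega.NO3S.FarQ.AB
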