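import Cfsg.Agent.Omega.FOne.TvwBasic
import Mathlib.LinearAlgebra.Dual.Lemmas
import Mathlib.LinearAlgebra.FiniteDimensional.Basic
import Mathlib.FieldTheory.Finiteness
import Mathlib.Algebra.Field.ZMod
import Mathlib.GroupTheory.PGroup
import Mathlib.GroupTheory.Index
import Mathlib.Algebra.BigOperators.Group.Finset.Basic

/-!
# Theorem AB (bb OMEGA #20929, helper937), section (5): the module part

`W` a finite `𝔽₂`-space, `A` a group of automorphisms, `N` a submodule, `r ∉ N`, `A` fixes `r` and `N`,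
`[W, A] ≤ ⟨r, N⟩`, `A` exact (`|A| |C_W(A)| = |W|`), `X` a spanning set such that `b x ∈ x + N` implies `b x = x`
for `x ∈ X`, `b ∈ A`.

* `sep_of` : `Δ ⊲ Γ` centralises `N`, `|Γ : C_Γ(λ)|` odd: `Δ`-conjugates of `μ ∈ λ^Γ` inside `μ + N` are equal to `μ`;
* `Fv.exists_tv` : for `x ∈ X`, `b ∈ A` moving `x`, `c := b x + x`, some `b' ∈ A` moves `x` and
  `b' w ∈ {w, w + c}` for all `w`.
-/

set_option autoImplicit false

namespace Cfsg.Agent.Omega.NO3S.AB

open Cfsg.Agent.Omega.FOne.Tvw (z2 addself faddself feq_of_add eq_of_add_eq_zero' z2add)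

variable {W : Type*} [AddCommGroup W] [Module (ZMod 2) W]

/-- the fixed points of `A` -/
def fx (A : Subgroup (W ≃ₗ[ZMod 2] W)) : Submodule (ZMod 2) W where
  carrier := {w | ∀ b ∈ A, b w = w}
  zero_mem' := fun b _ => map_zero b
  add_mem' := fun {v w} hv hw b hb => by rw [map_add, hv b hb, hw b hb]
  smul_mem' := fun c w hw b hb => by rw [map_smul, hw b hb]

theorem mem_fx {A : Subgroup (W ≃ₗ[ZMod 2] W)} {w : W} : w ∈ fx A ↔ ∀ b ∈ A, b w = w := Iff.rfl

/-- the hypotheses of (5) -/
structure Fv (A : Subgroup (W ≃ₗ[ZMod 2] W)) (r : W) (N : Submodule (ZMod 2) W) (X : Set W) : Prop where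
  rN : r ∉ N
  fixr : ∀ b ∈ A, b r = r
  fixN : ∀ b ∈ A, ∀ n ∈ N, b n = n
  low : ∀ b ∈ A, ∀ w, b w + w ∈ N ∨ b w + w + r ∈ N
  ex : Nat.card A * Nat.card (fx A) = Nat.card W
  gen : Submodule.span (ZMod 2) X = ⊤
  sep : ∀ b ∈ A, ∀ x ∈ X, b x + x ∈ N → b x = x

variable {A : Subgroup (W ≃ₗ[ZMod 2] W)} {r : W} {N : Submodule (ZMod 2) W} {X : Set W}

open scoped Classical in
/-- the functional of `b` -/
noncomputable def Fv.ph (h : Fv A r N X) (b : W ≃ₗ[ZMod 2] W) (hb : b ∈ A) : W →ₗ[ZMod 2] ZMod 2 where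
  toFun w := if b w + w ∈ N then 0 else 1
  map_add' := by
    intro v w
    have e : b (v + w) + (v + w) = (b v + v) + (b w + w) := by rw [map_add]; abel
    rw [e]
    by_cases hv : b v + v ∈ N <;> by_cases hw : b w + w ∈ N
    · rw [if_pos hv, if_pos hw, if_pos (N.add_mem hv hw), add_zero]
    · rw [if_pos hv, if_neg hw, if_neg, zero_add]
      intro h1
      exact hw ((N.add_mem_iff_right hv).mp h1)
    · rw [if_neg hv, if_pos hw, if_neg, add_zero]
      intro h1
      exact hv ((N.add_mem_iff_left hw).mp h1)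
    · rw [if_neg hv, if_neg hw, if_pos]
      · rfl
      · have h1 := (h.low b hb v).resolve_left hv
        have h2 := (h.low b hb w).resolve_left hw
        have h3 := N.add_mem h1 h2
        have e2 : (b v + v + r) + (b w + w + r) = (b v + v) + (b w + w) := by
          have := addself r
          linear_combination (norm := module) this
        rwa [e2] at h3
  map_smul' := by
    intro c w
    rcases z2 c with rfl | rfl
    · rw [zero_smul, map_zero, add_zero, if_pos N.zero_mem, RingHom.id_apply, zero_smul]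
    · rw [one_smul, RingHom.id_apply, one_smul]

theorem Fv.ph_eq (h : Fv A r N X) {b : W ≃ₗ[ZMod 2] W} (hb : b ∈ A) (w : W) : b w + w + h.ph b hb w • r ∈ N := by
  classical
  by_cases hw : b w + w ∈ N
  · have : h.ph b hb w = 0 := if_pos hw
    rw [this, zero_smul, add_zero]; exact hw
  · have : h.ph b hb w = 1 := if_neg hw
    rw [this, one_smul]; exact (h.low b hb w).resolve_left hw

theorem Fv.ph_zero (h : Fv A r N X) {b : W ≃ₗ[ZMod 2] W} (hb : b ∈ A) {w : W} :
    h.ph b hb w = 0 ↔ b w + w ∈ N := by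
  classical
  constructor
  · intro h1
    by_contra hw
    have : h.ph b hb w = 1 := if_neg hw
    rw [this] at h1
    exact one_ne_zero h1
  · intro hw; exact if_pos hw

theorem Fv.uniq (h : Fv A r N X) {b : W ≃ₗ[ZMod 2] W} (hb : b ∈ A) {w : W} {a : ZMod 2}
    (ha : b w + w + a • r ∈ N) : h.ph b hb w = a := by
  have h1 := h.ph_eq hb w
  have h2 := N.add_mem ha h1
  have e : (b w + w + a • r) + (b w + w + h.ph b hb w • r) = (a + h.ph b hb w) • r := by
    have := addself (b w + w)
    linear_combination (norm := module) this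
  rw [e] at h2
  rcases z2 (a + h.ph b hb w) with h3 | h3
  · rcases z2 a with h4 | h4 <;> rcases z2 (h.ph b hb w) with h5 | h5 <;> rw [h4, h5] at h3 ⊢ <;> simp at h3
  · rw [h3, one_smul] at h2; exact absurd h2 h.rN

theorem Fv.invol (h : Fv A r N X) {b : W ≃ₗ[ZMod 2] W} (hb : b ∈ A) (w : W) : b (b w) = w := by
  have h1 := h.fixN b hb _ (h.ph_eq hb w)
  rw [map_add, map_add, map_smul, h.fixr b hb] at h1
  have h2 := addself (b w)
  linear_combination (norm := module) h1

theorem Fv.mul (h : Fv A r N X) {b b' : W ≃ₗ[ZMod 2] W} (hb : b ∈ A) (hb' : b' ∈ A) (w : W) :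
    h.ph (b * b') (A.mul_mem hb hb') w = h.ph b hb w + h.ph b' hb' w := by
  apply h.uniq
  show b (b' w) + w + (h.ph b hb w + h.ph b' hb' w) • r ∈ N
  have h1 := h.ph_eq hb w
  have h2 := h.ph_eq hb' w
  have h3 := h.fixN b hb _ h2
  rw [map_add, map_add, map_smul, h.fixr b hb] at h3
  have h4 := N.add_mem h1 (h3.symm ▸ h2 : b (b' w) + b w + h.ph b' hb' w • r ∈ N)
  have e : (b w + w + h.ph b hb w • r) + (b (b' w) + b w + h.ph b' hb' w • r) =
      b (b' w) + w + (h.ph b hb w + h.ph b' hb' w) • r := by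
    have := addself (b w)
    linear_combination (norm := module) this
  rwa [e] at h4

theorem Fv.eq_of_gen (h : Fv A r N X) {b : W ≃ₗ[ZMod 2] W} (hX : ∀ x ∈ X, b x = x) : b = 1 := by
  apply LinearEquiv.ext
  intro w
  have hw : w ∈ Submodule.span (ZMod 2) X := h.gen ▸ Submodule.mem_top
  induction hw using Submodule.span_induction with
  | mem x hx => exact hX x hx
  | zero => rw [map_zero, map_zero]
  | add x y _ _ h1 h2 => rw [map_add, map_add, h1, h2]
  | smul a x _ h1 => rw [map_smul, map_smul, h1]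

theorem Fv.ph_fx (h : Fv A r N X) {b : W ≃ₗ[ZMod 2] W} (hb : b ∈ A) {w : W} (hw : w ∈ fx A) :
    h.ph b hb w = 0 := by
  rw [h.ph_zero, hw b hb, addself]; exact N.zero_mem

theorem Fv.inj (h : Fv A r N X) {b b' : W ≃ₗ[ZMod 2] W} (hb : b ∈ A) (hb' : b' ∈ A)
    (hE : h.ph b hb = h.ph b' hb') : b = b' := by
  have h1 : b * b' = 1 := by
    apply h.eq_of_gen
    intro x hx
    apply h.sep _ (A.mul_mem hb hb') x hx
    rw [← h.ph_zero (A.mul_mem hb hb'), h.mul hb hb', hE, z2add]
  have h2 : b' * b' = 1 := LinearEquiv.ext fun w => h.invol hb' w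
  calc b = b * (b' * b') := by rw [h2, mul_one]
    _ = b * b' * b' := by rw [mul_assoc]
    _ = b' := by rw [h1, one_mul]

/-- every functional killing `C_W(A)` is the functional of some `b ∈ A` -/
theorem Fv.surj [Finite W] (h : Fv A r N X) {φ : W →ₗ[ZMod 2] ZMod 2} (hφ : ∀ w ∈ fx A, φ w = 0) :
    ∃ b, ∃ hb : b ∈ A, h.ph b hb = φ := by
  classical
  have : Finite (W →ₗ[ZMod 2] ZMod 2) :=
    Finite.of_injective (fun φ : W →ₗ[ZMod 2] ZMod 2 => (φ : W → ZMod 2)) DFunLike.coe_injective
  have : Finite (Module.Dual (ZMod 2) W) := this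
  have : Module.Finite (ZMod 2) W := Module.Finite.of_finite
  have : Finite (W ≃ₗ[ZMod 2] W) :=
    Finite.of_injective (fun φ : W ≃ₗ[ZMod 2] W => (φ : W → W)) DFunLike.coe_injective
  let f : A → (fx A).dualAnnihilator := fun b => ⟨h.ph b.1 b.2, by
    rw [Submodule.mem_dualAnnihilator]
    intro w hw
    exact h.ph_fx b.2 hw⟩
  have hf : Function.Injective f := by
    intro b b' hE
    exact Subtype.ext (h.inj b.2 b'.2 (congrArg Subtype.val hE))
  have hc1 : Nat.card W = 2 ^ Module.finrank (ZMod 2) W := by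
    have := Module.natCard_eq_pow_finrank (K := ZMod 2) (V := W)
    rwa [Nat.card_eq_fintype_card (α := ZMod 2), ZMod.card] at this
  have hc2 : Nat.card (fx A) = 2 ^ Module.finrank (ZMod 2) (fx A) := by
    have := Module.natCard_eq_pow_finrank (K := ZMod 2) (V := (fx A))
    rwa [Nat.card_eq_fintype_card (α := ZMod 2), ZMod.card] at this
  have hc3 : Nat.card (fx A).dualAnnihilator = 2 ^ Module.finrank (ZMod 2) (fx A).dualAnnihilator := by
    have := Module.natCard_eq_pow_finrank (K := ZMod 2) (V := (fx A).dualAnnihilator)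
    rwa [Nat.card_eq_fintype_card (α := ZMod 2), ZMod.card] at this
  have hr : Module.finrank (ZMod 2) (fx A) + Module.finrank (ZMod 2) (fx A).dualAnnihilator =
      Module.finrank (ZMod 2) W := Subspace.finrank_add_finrank_dualAnnihilator_eq _
  have hcard : Nat.card A = Nat.card (fx A).dualAnnihilator := by
    have h1 := h.ex
    rw [hc1, hc2, ← hr, pow_add, mul_comm] at h1
    rw [hc3]
    exact Nat.eq_of_mul_eq_mul_left (by positivity) h1
  have hb := (Nat.bijective_iff_injective_and_card f).mpr ⟨hf, hcard⟩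
  obtain ⟨⟨b, hbA⟩, hE⟩ := hb.2 ⟨φ, by
    rw [Submodule.mem_dualAnnihilator]
    exact fun w hw => hφ w hw⟩
  exact ⟨b, hbA, congrArg Subtype.val hE⟩

/-- a vector outside a submodule is detected by a functional killing the submodule -/
theorem exists_fun [Finite W] {E : Submodule (ZMod 2) W} {w : W} (hw : w ∉ E) :
    ∃ φ : W →ₗ[ZMod 2] ZMod 2, (∀ v ∈ E, φ v = 0) ∧ φ w = 1 := by
  obtain ⟨φ, h1, h2⟩ := Submodule.exists_dual_map_eq_bot_of_notMem hw inferInstance
  refine ⟨φ, fun v hv => ?_, (z2 (φ w)).resolve_left h1⟩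
  have : φ v ∈ E.map φ := Submodule.mem_map_of_mem hv
  rw [h2] at this
  exact (Submodule.mem_bot _).mp this

theorem Fv.mem_fx_of [Finite W] (h : Fv A r N X) {w : W} (hw : ∀ b, ∀ hb : b ∈ A, h.ph b hb w = 0) : w ∈ fx A := by
  by_contra hc
  obtain ⟨φ, h1, h2⟩ := exists_fun hc
  obtain ⟨b, hb, hE⟩ := h.surj h1
  have := hw b hb
  rw [hE, h2] at this
  exact one_ne_zero this

/-- the vectors on which `b` acts as `1 + φ_b c` -/
def Fv.U (h : Fv A r N X) (c : W) : Submodule (ZMod 2) W where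
  carrier := {w | ∀ b, ∀ hb : b ∈ A, b w = w + h.ph b hb w • c}
  zero_mem' := fun b hb => by rw [map_zero, map_zero, zero_smul, add_zero]
  add_mem' := fun {v w} hv hw b hb => by rw [map_add, map_add, hv b hb, hw b hb, add_smul]; abel
  smul_mem' := fun a w hw b hb => by
    rcases z2 a with rfl | rfl
    · rw [zero_smul, map_zero, map_zero, zero_smul, add_zero]
    · rw [one_smul]; exact hw b hb

theorem Fv.fx_le (h : Fv A r N X) (c : W) : fx A ≤ h.U c := by
  intro w hw b hb
  rw [h.ph_fx hb hw, zero_smul, add_zero, hw b hb]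

theorem Fv.indep [Finite W] (h : Fv A r N X) (S : Finset W) : ∀ u : W → W, (∀ c ∈ S, u c ∈ h.U c) →
    ∑ c ∈ S, u c ∈ fx A → ∀ c ∈ S, u c ∈ fx A := by
  classical
  induction S using Finset.induction_on with
  | empty => intro u _ _ c hc; exact absurd hc (Finset.notMem_empty c)
  | insert a S ha ih =>
    intro u hu hs
    have key : ∀ b, ∀ hb : b ∈ A, ∑ c ∈ S, h.ph b hb (u c) • (c + a) = 0 := by
      intro b hb
      have h1 : ∑ c ∈ insert a S, h.ph b hb (u c) = 0 := by
        rw [← map_sum]; exact h.ph_fx hb hs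
      have h2 : ∑ c ∈ insert a S, h.ph b hb (u c) • c = 0 := by
        have h3 := hs b hb
        rw [map_sum, Finset.sum_congr rfl (fun c hc => hu c hc b hb), Finset.sum_add_distrib] at h3
        exact add_eq_left.mp h3
      rw [Finset.sum_insert ha] at h1 h2
      have h4 : h.ph b hb (u a) = ∑ c ∈ S, h.ph b hb (u c) := by
        have h5 := z2add (∑ c ∈ S, h.ph b hb (u c))
        calc h.ph b hb (u a) = h.ph b hb (u a) + (∑ c ∈ S, h.ph b hb (u c) + ∑ c ∈ S, h.ph b hb (u c)) := by
              rw [h5, add_zero]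
          _ = (h.ph b hb (u a) + ∑ c ∈ S, h.ph b hb (u c)) + ∑ c ∈ S, h.ph b hb (u c) := by rw [add_assoc]
          _ = _ := by rw [h1, zero_add]
      rw [h4, Finset.sum_smul] at h2
      rw [← h2, ← Finset.sum_add_distrib]
      exact Finset.sum_congr rfl fun c _ => by rw [smul_add, add_comm]
    have hS : ∀ c ∈ S, u c ∈ fx A := by
      intro c0 hc0
      have hne : c0 + a ≠ 0 := by
        intro h1
        exact ha (eq_of_add_eq_zero' h1 ▸ hc0)
      obtain ⟨l, -, hl⟩ := exists_fun (E := (⊥ : Submodule (ZMod 2) W)) (w := c0 + a)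
        (fun h1 => hne ((Submodule.mem_bot _).mp h1))
      have h1 := ih (fun c => l (c + a) • u c)
        (fun c hc => (h.U c).smul_mem _ (hu c (Finset.mem_insert_of_mem hc))) ?_ c0 hc0
      · have h2 : l (c0 + a) • u c0 ∈ fx A := h1
        rwa [hl, one_smul] at h2
      · apply h.mem_fx_of
        intro b hb
        rw [map_sum]
        have h2 := congrArg l (key b hb)
        rw [map_sum, map_zero] at h2
        rw [← h2]
        exact Finset.sum_congr rfl fun c _ => by rw [map_smul, map_smul, smul_eq_mul, smul_eq_mul, mul_comm]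
    intro c hc
    rcases Finset.mem_insert.mp hc with rfl | hc
    · rw [Finset.sum_insert ha] at hs
      exact ((fx A).add_mem_iff_left ((fx A).sum_mem hS)).mp hs
    · exact hS c hc

/-- for `x ∈ X` the nonzero commutators `b x + x` are all equal -/
theorem Fv.one_c (h : Fv A r N X) {x : W} (hx : x ∈ X) {b b' : W ≃ₗ[ZMod 2] W} (hb : b ∈ A) (hb' : b' ∈ A)
    (h1 : b x ≠ x) (h2 : b' x ≠ x) : b x = b' x := by
  have p1 : ∀ b, ∀ hb : b ∈ A, b x ≠ x → h.ph b hb x = 1 := fun b hb hne =>
    (z2 _).resolve_left fun h3 => hne (h.sep b hb x hx ((h.ph_zero hb).mp h3))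
  have h3 : (b * b') x = x := by
    apply h.sep _ (A.mul_mem hb hb') x hx
    rw [← h.ph_zero (A.mul_mem hb hb'), h.mul hb hb', p1 b hb h1, p1 b' hb' h2]; rfl
  have h4 : b (b' x) = x := h3
  calc b x = b (b (b' x)) := by rw [h4]
    _ = b' x := h.invol hb _

theorem Fv.mem_U (h : Fv A r N X) {x : W} (hx : x ∈ X) {b : W ≃ₗ[ZMod 2] W} (hb : b ∈ A) (h1 : b x ≠ x) :
    x ∈ h.U (b x + x) := by
  intro b' hb'
  by_cases h2 : b' x = x
  · have : h.ph b' hb' x = 0 := by rw [h.ph_zero, h2, addself]; exact N.zero_mem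
    rw [this, zero_smul, add_zero, h2]
  · have : h.ph b' hb' x = 1 :=
      (z2 _).resolve_left fun h3 => h2 (h.sep b' hb' x hx ((h.ph_zero hb').mp h3))
    rw [this, one_smul, ← h.one_c hx hb hb' h1 h2]
    have := addself x
    linear_combination (norm := module) -this

/-- **(5)** : some `b' ∈ A` acts on `W` as a transvection with the centre `b x + x`, `x ∈ X` -/
theorem Fv.exists_tv [Finite W] (h : Fv A r N X) {x : W} (hx : x ∈ X) {b : W ≃ₗ[ZMod 2] W} (hb : b ∈ A)
    (h1 : b x ≠ x) : ∃ b' ∈ A, b' x ≠ x ∧ ∀ w, b' w = w ∨ b' w = w + (b x + x) := by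
  classical
  have : Fintype W := Fintype.ofFinite W
  set c := b x + x with hc
  -- the sum of the other eigenspaces
  let V : Submodule (ZMod 2) W :=
    { carrier := {v | ∃ u : W → W, (∀ d, u d ∈ h.U d) ∧ u c ∈ fx A ∧ v = ∑ d, u d}
      zero_mem' := ⟨fun _ => 0, fun d => (h.U d).zero_mem, (fx A).zero_mem, by rw [Finset.sum_const_zero]⟩
      add_mem' := by
        rintro _ _ ⟨u, a1, a2, rfl⟩ ⟨u', b1, b2, rfl⟩
        exact ⟨fun d => u d + u' d, fun d => (h.U d).add_mem (a1 d) (b1 d), (fx A).add_mem a2 b2,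
          by rw [Finset.sum_add_distrib]⟩
      smul_mem' := by
        rintro a _ ⟨u, a1, a2, rfl⟩
        exact ⟨fun d => a • u d, fun d => (h.U d).smul_mem _ (a1 d), (fx A).smul_mem _ a2,
          by rw [Finset.smul_sum]⟩ }
  have hxV : x ∉ V := by
    rintro ⟨u, a1, a2, hE⟩
    have hs : ∀ d ∈ (Finset.univ : Finset W), u d + (if d = c then x else 0) ∈ fx A := by
      apply h.indep
      · intro d _
        refine (h.U d).add_mem (a1 d) ?_
        by_cases hd : d = c
        · rw [if_pos hd, hd]; exact h.mem_U hx hb h1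
        · rw [if_neg hd]; exact (h.U d).zero_mem
      · rw [Finset.sum_add_distrib, ← hE, Finset.sum_ite_eq' Finset.univ c (fun _ => x),
          if_pos (Finset.mem_univ c), addself]
        exact (fx A).zero_mem
    have h3 := hs c (Finset.mem_univ c)
    rw [if_pos rfl] at h3
    exact h1 (((fx A).add_mem_iff_right a2).mp h3 b hb)
  obtain ⟨φ, hφ, hφx⟩ := exists_fun hxV
  have hfV : ∀ w ∈ fx A, φ w = 0 := by
    intro w hw
    apply hφ
    refine ⟨fun d => if d = c then w else 0, fun d => ?_, ?_, ?_⟩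
    · show (if d = c then w else 0) ∈ h.U d
      by_cases hd : d = c
      · rw [if_pos hd]; exact h.fx_le d hw
      · rw [if_neg hd]; exact (h.U d).zero_mem
    · show (if c = c then w else 0) ∈ fx A
      rw [if_pos rfl]; exact hw
    · rw [Finset.sum_ite_eq' Finset.univ c (fun _ => w), if_pos (Finset.mem_univ c)]
  obtain ⟨b', hb', hE⟩ := h.surj hfV
  have hX : ∀ x' ∈ X, b' x' = x' + φ x' • c := by
    intro x' hx'
    by_cases h2 : b' x' = x'
    · have : φ x' = 0 := by rw [← hE, h.ph_zero, h2, addself]; exact N.zero_mem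
      rw [this, zero_smul, add_zero, h2]
    · have h3 : h.ph b' hb' x' = 1 :=
        (z2 _).resolve_left fun h3 => h2 (h.sep b' hb' x' hx' ((h.ph_zero hb').mp h3))
      have h4 : φ x' = 1 := by rw [← hE, h3]
      have h5 := h.mem_U hx' hb' h2
      by_cases h6 : b' x' + x' = c
      · rw [h4, one_smul, ← h6]
        have := addself x'
        linear_combination (norm := module) -this
      · exfalso
        have h7 : φ x' = 0 := by
          apply hφ
          refine ⟨fun d => if d = b' x' + x' then x' else 0, fun d => ?_, ?_, ?_⟩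
          · show (if d = b' x' + x' then x' else 0) ∈ h.U d
            by_cases hd : d = b' x' + x'
            · rw [if_pos hd, hd]; exact h5
            · rw [if_neg hd]; exact (h.U d).zero_mem
          · show (if c = b' x' + x' then x' else 0) ∈ fx A
            rw [if_neg (Ne.symm h6)]; exact (fx A).zero_mem
          · rw [Finset.sum_ite_eq' Finset.univ (b' x' + x') (fun _ => x'), if_pos (Finset.mem_univ _)]
        rw [h7] at h4
        exact zero_ne_one h4
  have hW : ∀ w, b' w = w + φ w • c := by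
    intro w
    have hw : w ∈ Submodule.span (ZMod 2) X := h.gen ▸ Submodule.mem_top
    induction hw using Submodule.span_induction with
    | mem x hx => exact hX x hx
    | zero => rw [map_zero, map_zero, zero_smul, add_zero]
    | add x y _ _ h1 h2 => rw [map_add, map_add, h1, h2, add_smul]; abel
    | smul a x _ h1 =>
      rcases z2 a with rfl | rfl
      · rw [zero_smul, map_zero, map_zero, zero_smul, add_zero]
      · rw [one_smul]; exact h1
  refine ⟨b', hb', fun h2 => ?_, fun w => ?_⟩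
  · have h3 := hW x
    rw [h2, hφx, one_smul] at h3
    have h4 : c = 0 := by
      have h5 := addself x
      linear_combination (norm := module) -h3
    exact h1 (eq_of_add_eq_zero' (hc ▸ h4))
  · rw [hW]
    rcases z2 (φ w) with h3 | h3
    · left; rw [h3, zero_smul, add_zero]
    · right; rw [h3, one_smul]

section orbit

variable {Γ : Type*} [Group Γ] [Finite Γ]

theorem relIndex_dvd (T Δ : Subgroup Γ) [Δ.Normal] : (T ⊓ Δ).relIndex Δ ∣ T.index := by
  have h1 : (T ⊓ Δ).relIndex T * T.index = (T ⊓ Δ).index := Subgroup.relIndex_mul_index inf_le_left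
  have h2 : (T ⊓ Δ).relIndex Δ * Δ.index = (T ⊓ Δ).index := Subgroup.relIndex_mul_index inf_le_right
  have h3 : Δ.relIndex (T ⊔ Δ) * (T ⊔ Δ).index = Δ.index := Subgroup.relIndex_mul_index le_sup_right
  rw [Subgroup.relIndex_sup_right] at h3
  rw [Subgroup.inf_relIndex_left] at h1
  refine ⟨(T ⊔ Δ).index, ?_⟩
  have h0 : 0 < Δ.relIndex T := by
    rw [Subgroup.relIndex, Subgroup.index]
    exact Nat.card_pos
  apply Nat.eq_of_mul_eq_mul_left h0
  rw [h1, ← h2, ← h3]
  ring

/-- a normal subgroup `Δ` centralising `N`, `|Γ : C_Γ(λ)|` odd: the `Δ`-orbits on `λ^Γ` inject into `W/N` -/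
theorem sep_of (ρ : Γ →* (W ≃ₗ[ZMod 2] W)) (hN : ∀ γ, ∀ n ∈ N, ρ γ n ∈ N) (Δ T : Subgroup Γ) [Δ.Normal]
    (hΔ : ∀ δ ∈ Δ, ∀ n ∈ N, ρ δ n = n) (hT : ¬ 2 ∣ T.index) {v : W} (hv : ∀ t ∈ T, ρ t v = v)
    (γ : Γ) {δ : Γ} (hδ : δ ∈ Δ) (h : ρ δ (ρ γ v) + ρ γ v ∈ N) : ρ δ (ρ γ v) = ρ γ v := by
  -- `D₀ = {δ ∈ Δ : δ v ∈ v + N}`
  let D₀ : Subgroup Γ :=
    { carrier := {δ | δ ∈ Δ ∧ ρ δ v + v ∈ N}
      one_mem' := ⟨Δ.one_mem, by rw [map_one]; show v + v ∈ N; rw [addself]; exact N.zero_mem⟩
      mul_mem' := by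
        rintro a b ⟨ha, ha'⟩ ⟨hb, hb'⟩
        refine ⟨Δ.mul_mem ha hb, ?_⟩
        have e : ρ (a * b) v + v = ρ a (ρ b v + v) + (ρ a v + v) := by
          rw [map_mul, map_add]
          show ρ a (ρ b v) + v = _
          have := addself (ρ a v)
          linear_combination (norm := module) -this
        rw [e]
        exact N.add_mem (hN a _ hb') ha'
      inv_mem' := by
        rintro a ⟨ha, ha'⟩
        refine ⟨Δ.inv_mem ha, ?_⟩
        have e : ρ a⁻¹ v + v = ρ a⁻¹ (ρ a v + v) := by
          rw [map_add, ← LinearEquiv.mul_apply, ← map_mul, inv_mul_cancel, map_one]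
          show _ = v + _
          rw [add_comm]
        rw [e]
        exact hN _ _ ha' }
  let f : D₀ →* Multiplicative W :=
    { toFun := fun a => Multiplicative.ofAdd (ρ a.1 v + v)
      map_one' := by
        show Multiplicative.ofAdd (ρ 1 v + v) = 1
        rw [map_one]
        show Multiplicative.ofAdd (v + v) = 1
        rw [addself]; rfl
      map_mul' := by
        rintro ⟨a, ha, ha'⟩ ⟨b, hb, hb'⟩
        show Multiplicative.ofAdd (ρ (a * b) v + v) = Multiplicative.ofAdd (ρ a v + v) * Multiplicative.ofAdd (ρ b v + v)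
        rw [← ofAdd_add]
        congr 1
        have e1 := hΔ a ha _ hb'
        rw [map_add] at e1
        rw [map_mul]
        show ρ a (ρ b v) + v = _
        have h2 := addself (ρ a v)
        linear_combination (norm := module) e1 - h2 }
  have hker : f.ker.index = Nat.card f.range := Subgroup.index_ker f
  have h2 : IsPGroup 2 f.range := by
    rintro ⟨x, hx⟩
    refine ⟨1, Subtype.ext ?_⟩
    show x ^ 2 ^ 1 = 1
    rw [pow_one, pow_two]
    exact addself (Multiplicative.toAdd x)
  have hTD : T ⊓ Δ ≤ f.ker.map D₀.subtype := by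
    intro t ht
    have htD : t ∈ D₀ := ⟨ht.2, by rw [hv t ht.1, addself]; exact N.zero_mem⟩
    refine ⟨⟨t, htD⟩, ?_, rfl⟩
    show Multiplicative.ofAdd (ρ t v + v) = 1
    rw [hv t ht.1, addself]; rfl
  have hodd : ¬ 2 ∣ f.ker.index := by
    intro h3
    apply hT
    have e1 : (f.ker.map D₀.subtype).relIndex D₀ = f.ker.index := by
      rw [Subgroup.relIndex, Subgroup.subgroupOf]
      congr 1
      exact Subgroup.comap_map_eq_self_of_injective D₀.subtype_injective _
    have h4 : f.ker.index ∣ (T ⊓ Δ).relIndex Δ := by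
      rw [← e1]
      have hDΔ : D₀ ≤ Δ := fun _ ha => ha.1
      have hKD : f.ker.map D₀.subtype ≤ D₀ := by
        rintro _ ⟨a, -, rfl⟩
        exact a.2
      have h5 := Subgroup.relIndex_mul_relIndex (T ⊓ Δ) (f.ker.map D₀.subtype) Δ hTD (hKD.trans hDΔ)
      have h6 := Subgroup.relIndex_mul_relIndex (f.ker.map D₀.subtype) D₀ Δ hKD hDΔ
      rw [← h5, ← h6]
      exact (Dvd.intro _ rfl).trans (Dvd.intro_left _ rfl)
    rw [Subgroup.inf_relIndex_right] at h4
    rw [← Subgroup.inf_relIndex_right] at h4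
    exact (h3.trans h4).trans (relIndex_dvd T Δ)
  have hcard : Nat.card f.range = 1 := by
    have : Finite f.range := Finite.of_surjective f.rangeRestrict f.rangeRestrict_surjective
    obtain ⟨n, hn⟩ := IsPGroup.iff_card.mp h2
    rw [hker, hn] at hodd
    rcases Nat.eq_zero_or_pos n with h3 | h3
    · rw [hn, h3, pow_zero]
    · exact absurd (dvd_pow_self 2 (by omega)) hodd
  -- the case `γ = 1`
  have main : ∀ δ ∈ Δ, ρ δ v + v ∈ N → ρ δ v = v := by
    intro δ hδ h
    have h3 : f.range = ⊥ := Subgroup.card_eq_one.mp hcard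
    have h4 : f ⟨δ, hδ, h⟩ ∈ f.range := ⟨_, rfl⟩
    rw [h3, Subgroup.mem_bot] at h4
    have h5 : ρ δ v + v = 0 := h4
    exact eq_of_add_eq_zero' h5
  have hδ' : γ⁻¹ * δ * γ ∈ Δ := by
    have := Subgroup.Normal.conj_mem (inferInstance : Δ.Normal) δ hδ γ⁻¹
    rwa [inv_inv] at this
  have e : ρ (γ⁻¹ * δ * γ) v = ρ γ⁻¹ (ρ δ (ρ γ v)) := by
    rw [map_mul, map_mul]; rfl
  have e2 : ρ γ⁻¹ (ρ γ v) = v := by
    rw [← LinearEquiv.mul_apply, ← map_mul, inv_mul_cancel, map_one]; rfl
  have h3 := main _ hδ' (by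
    rw [e]
    nth_rewrite 2 [← e2]
    rw [← map_add]
    exact hN _ _ h)
  rw [e] at h3
  have h4 := congrArg (ρ γ) h3
  rwa [← LinearEquiv.mul_apply, ← map_mul, mul_inv_cancel, map_one] at h4

end orbit

end Cfsg.Agent.Omega.NO3S.AB
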