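import Cfsg.Agent.Omega.FOne.NOv.Def
import Mathlib.GroupTheory.Index
import Mathlib.LinearAlgebra.Basis.VectorSpace
import Mathlib.Algebra.BigOperators.Group.Finset.Basic

/-!
# THEOREM AB (helper937, bb OMEGA #20929), part (6): the sum `v` of the orbit of `lam`

`Γ` acts on the `𝔽₂`-space `V`, fixes `y ≠ 0`; `L` normal, `Γ = L T`, `|Γ : T|` odd, `T` fixes `x` modulo `y`.

* `exists_sum` : there is `v` (the sum of representatives of the `L`-orbit of `x` modulo `y`) with
  (a) `v` is fixed by `Γ` modulo `y`;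
  (b) `x + v` lies in every subspace which contains `y` and the `l x + x`, `l ∈ L`;
  (c) an element which fixes all `l x + x`, `l ∈ L`, fixes `x + v`;
  (d) an involution `f ∈ L` which swaps the lifts of no `l x` fixes `v`.
-/

set_option autoImplicit false
set_option linter.unusedSectionVars false

namespace Cfsg.Agent.Omega.NO3S.FarQ.AB

open Subgroup
open Cfsg.Agent.Omega.FOne.Tvw (z2 addself)

section idx

variable {Γ : Type*} [Group Γ] [Finite Γ] {L T : Subgroup Γ}

/-- `|L : L ∩ T| = |Γ : T|` for `Γ = L T`, `L` normal -/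
theorem relIndex_eq_index [L.Normal] (h : L ⊔ T = ⊤) : T.relIndex L = T.index := by
  have h5 : L.relIndex T = L.index := by
    have h6 := relIndex_sup_left T L
    rw [h, relIndex_top_right] at h6
    exact h6.symm
  have h1 := L.card_mul_index
  have h2 := T.card_mul_index
  have h3 : Nat.card (L ⊓ T : Subgroup Γ) * L.relIndex T = Nat.card T := by
    have := relIndex_mul_relIndex ⊥ (L ⊓ T) T bot_le inf_le_right
    rwa [relIndex_bot_left, relIndex_bot_left, inf_relIndex_right] at this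
  have h4 : Nat.card (L ⊓ T : Subgroup Γ) * T.relIndex L = Nat.card L := by
    have := relIndex_mul_relIndex ⊥ (L ⊓ T) L bot_le inf_le_left
    rwa [relIndex_bot_left, relIndex_bot_left, inf_relIndex_left] at this
  have h7 : 0 < Nat.card (L ⊓ T : Subgroup Γ) := Nat.card_pos
  have h8 : 0 < L.index := Nat.pos_of_ne_zero L.index_ne_zero_of_finite
  have h9 : (Nat.card (L ⊓ T : Subgroup Γ) * L.index) * T.relIndex L =
      (Nat.card (L ⊓ T : Subgroup Γ) * L.index) * T.index := by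
    calc (Nat.card (L ⊓ T : Subgroup Γ) * L.index) * T.relIndex L
        = (Nat.card (L ⊓ T : Subgroup Γ) * T.relIndex L) * L.index := by ring
      _ = Nat.card T * T.index := by rw [h4, h1, h2]
      _ = (Nat.card (L ⊓ T : Subgroup Γ) * L.index) * T.index := by rw [← h3, h5]
  exact Nat.eq_of_mul_eq_mul_left (Nat.mul_pos h7 h8) h9

end idx

variable {Γ : Type*} [Group Γ] [Finite Γ] {V : Type*} [AddCommGroup V] [Module (ZMod 2) V] [Finite V]
  (ψ : Γ →* (V ≃ₗ[ZMod 2] V)) {y x : V} {L T : Subgroup Γ}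

theorem exists_pi (y0 : y ≠ 0) : ∃ π : V →ₗ[ZMod 2] ZMod 2, π y = 1 := by
  have h1 : y ∉ (⊥ : Submodule (ZMod 2) V) := by rwa [Submodule.mem_bot]
  obtain ⟨φ, φ1, -⟩ := Submodule.exists_le_ker_of_notMem h1
  exact ⟨φ, (z2 _).resolve_left φ1⟩

theorem nsmul_odd {n : ℕ} (hn : ¬ 2 ∣ n) (w : V) : n • w = w := by
  obtain ⟨k, hk⟩ := Nat.not_even_iff_odd.mp (fun h => hn h.two_dvd)
  rw [hk, add_nsmul, one_nsmul, mul_nsmul, two_nsmul, addself, nsmul_zero, zero_add]

/-- the sum of an orbit -/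
theorem exists_sum (y0 : y ≠ 0) (hy : ∀ g, ψ g y = y) [L.Normal] (hLT : L ⊔ T = ⊤) (hT : ¬ 2 ∣ T.index)
    (hx : ∀ t ∈ T, ψ t x = x ∨ ψ t x = x + y) :
    ∃ v : V, (∀ g, ψ g v = v ∨ ψ g v = v + y) ∧
      (∀ U : Submodule (ZMod 2) V, y ∈ U → (∀ l ∈ L, ψ l x + x ∈ U) → x + v ∈ U) ∧
      (∀ κ : Γ, (∀ l ∈ L, ψ κ (ψ l x + x) = ψ l x + x) → ψ κ (x + v) = x + v) ∧
      (∀ f ∈ L, f * f = 1 → (∀ l ∈ L, ψ f (ψ l x) ≠ ψ l x + y) → ψ f v = v) := by
  classical
  obtain ⟨π, hπ⟩ := exists_pi y0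
  -- the projection
  let s : V →ₗ[ZMod 2] V := LinearMap.id + π.smulRight y
  have hs : ∀ w, s w = w + π w • y := fun w => rfl
  have sy : s y = 0 := by rw [hs, hπ, one_smul, addself]
  have hπs : ∀ w, π (s w) = 0 := by
    intro w
    rw [hs, map_add, map_smul, hπ, smul_eq_mul, mul_one]
    exact FOne.Tvw.z2add _
  have hsg : ∀ (g : Γ) (w : V), s (ψ g (s w)) = s (ψ g w) := by
    intro g w
    rw [hs w, map_add, map_smul, hy, map_add, map_smul, sy, smul_zero, add_zero]
  have hs0 : ∀ {w}, π w = 0 → s w = w := by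
    intro w h
    rw [hs, h, zero_smul, add_zero]
  have hsy : ∀ w, s (w + y) = s w := fun w => by rw [map_add, sy, add_zero]
  have hmul : ∀ (g h : Γ) (w : V), ψ (g * h) w = ψ g (ψ h w) := fun g h w => by rw [map_mul]; rfl
  -- the orbit
  let O : Finset V := (Set.toFinite (Set.range fun l : L => s (ψ (l : Γ) x))).toFinset
  have hO : ∀ μ, μ ∈ O ↔ ∃ l ∈ L, s (ψ l x) = μ := by
    intro μ
    rw [Set.Finite.mem_toFinset]
    constructor
    · rintro ⟨l, rfl⟩; exact ⟨l, l.2, rfl⟩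
    · rintro ⟨l, hl, rfl⟩; exact ⟨⟨l, hl⟩, rfl⟩
  have hπO : ∀ μ ∈ O, π μ = 0 := by
    intro μ hμ
    obtain ⟨l, -, rfl⟩ := (hO μ).mp hμ
    exact hπs _
  have hxT : ∀ t ∈ T, s (ψ t x) = s x := by
    intro t ht
    rcases hx t ht with h | h <;> rw [h]
    exact hsy x
  have hdec : ∀ g : Γ, ∃ l ∈ L, s (ψ g x) = s (ψ l x) := by
    intro g
    have hg : g ∈ L ⊔ T := by rw [hLT]; exact mem_top g
    obtain ⟨l, hl, t, ht, rfl⟩ := mem_sup_of_normal_left.mp hg
    refine ⟨l, hl, ?_⟩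
    rw [hmul, ← hsg l (ψ t x), hxT t ht, hsg]
  have hact : ∀ (g : Γ), ∀ μ ∈ O, s (ψ g μ) ∈ O := by
    intro g μ hμ
    obtain ⟨l, hl, rfl⟩ := (hO μ).mp hμ
    obtain ⟨l1, hl1, e1⟩ := hdec g
    refine (hO _).mpr ⟨g * l * g⁻¹ * l1, L.mul_mem (Normal.conj_mem inferInstance l hl g) hl1, ?_⟩
    rw [hsg, hmul, ← hsg (g * l * g⁻¹) (ψ l1 x), ← e1, hsg, ← hmul, ← hmul]
    congr 3
    group
  have hinvO : ∀ (g : Γ), ∀ μ ∈ O, s (ψ g⁻¹ (s (ψ g μ))) = μ := by
    intro g μ hμ
    rw [hsg, ← hmul, inv_mul_cancel, map_one]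
    exact hs0 (hπO μ hμ)
  have hinvO' : ∀ (g : Γ), ∀ μ ∈ O, s (ψ g (s (ψ g⁻¹ μ))) = μ := by
    intro g μ hμ
    have := hinvO g⁻¹ μ hμ
    rwa [inv_inv] at this
  -- the size of the orbit is odd
  have hcard : ¬ 2 ∣ O.card := by
    let St : Subgroup L :=
      { carrier := {l | s (ψ (l : Γ) x) = s x}
        one_mem' := by
          change s (ψ ((1 : L) : Γ) x) = s x
          rw [OneMemClass.coe_one, map_one]; rfl
        mul_mem' := by
          intro a b ha hb
          change s (ψ ((a * b : L) : Γ) x) = s x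
          rw [Subgroup.coe_mul, hmul, ← hsg (a : Γ) (ψ (b : Γ) x), show s (ψ (b : Γ) x) = s x from hb, hsg]
          exact ha
        inv_mem' := by
          intro a ha
          change s (ψ ((a⁻¹ : L) : Γ) x) = s x
          have h1 : s (ψ (a : Γ) x) = s x := ha
          have h2 : s (ψ (a : Γ)⁻¹ (s (ψ (a : Γ) x))) = s x := by
            rw [hsg, ← hmul, inv_mul_cancel, map_one]; rfl
          rw [h1, hsg] at h2
          exact h2 }
    have hmem : ∀ l : L, s (ψ (l : Γ) x) ∈ O := fun l => (hO _).mpr ⟨l, l.2, rfl⟩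
    have hlift : ∀ a b : L, a⁻¹ * b ∈ St → s (ψ (a : Γ) x) = s (ψ (b : Γ) x) := by
      intro a b hab
      have h1 : s (ψ ((a⁻¹ * b : L) : Γ) x) = s x := hab
      have h2 : (b : Γ) = a * ((a⁻¹ * b : L) : Γ) := by
        rw [Subgroup.coe_mul, Subgroup.coe_inv]; group
      rw [h2, hmul, ← hsg (a : Γ) (ψ _ x), h1, hsg]
    let F : L ⧸ St → O := fun q => Quotient.liftOn' q (fun l => (⟨s (ψ (l : Γ) x), hmem l⟩ : O))
      (fun a b hab => Subtype.ext (hlift a b (QuotientGroup.leftRel_apply.mp hab)))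
    have hF : Function.Bijective F := by
      constructor
      · intro q q'
        induction q using QuotientGroup.induction_on with
        | H a =>
          induction q' using QuotientGroup.induction_on with
          | H b =>
            intro h
            have h1 : s (ψ (a : Γ) x) = s (ψ (b : Γ) x) := congrArg Subtype.val h
            refine QuotientGroup.eq.mpr ?_
            change s (ψ ((a⁻¹ * b : L) : Γ) x) = s x
            rw [Subgroup.coe_mul, Subgroup.coe_inv, hmul, ← hsg (a : Γ)⁻¹ (ψ (b : Γ) x), ← h1, hsg, ← hmul,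
              inv_mul_cancel, map_one]
            rfl
      · rintro ⟨μ, hμ⟩
        obtain ⟨l, hl, e⟩ := (hO μ).mp hμ
        exact ⟨((⟨l, hl⟩ : L) : L ⧸ St), Subtype.ext e⟩
    have h1 : St.index = O.card := by
      have h2 : Nat.card (L ⧸ St) = Nat.card O := Nat.card_eq_of_bijective F hF
      rw [Nat.card_eq_fintype_card (α := O), Fintype.card_coe] at h2
      exact h2
    have h2 : T.subgroupOf L ≤ St := by
      intro l hl
      exact hxT _ (mem_subgroupOf.mp hl)
    have h3 : St.index ∣ T.relIndex L := index_dvd_of_le h2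
    rw [relIndex_eq_index hLT, h1] at h3
    exact fun h4 => hT (h4.trans h3)
  have hperm : ∀ g : Γ, ∑ μ ∈ O, s (ψ g μ) = ∑ μ ∈ O, μ := by
    intro g
    refine Finset.sum_nbij (fun μ => s (ψ g μ)) (fun μ hμ => hact g μ hμ) ?_ ?_ fun μ _ => rfl
    · intro a ha b hb hab
      have hab' : s (ψ g a) = s (ψ g b) := hab
      rw [← hinvO g a ha, ← hinvO g b hb, hab']
    · intro μ hμ
      exact ⟨s (ψ g⁻¹ μ), hact g⁻¹ μ hμ, hinvO' g μ hμ⟩
  refine ⟨∑ μ ∈ O, μ, ?_, ?_, ?_, ?_⟩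
  · intro g
    have h1 : s (ψ g (∑ μ ∈ O, μ)) = ∑ μ ∈ O, μ := by
      rw [map_sum, map_sum]; exact hperm g
    rw [hs] at h1
    rcases z2 (π (ψ g (∑ μ ∈ O, μ))) with h2 | h2
    · left; rw [h2, zero_smul, add_zero] at h1; exact h1
    · right
      rw [h2, one_smul] at h1
      rw [← h1, add_assoc, addself, add_zero]
      congr 1
  · intro U hyU hU
    have h1 : x + ∑ μ ∈ O, μ = ∑ μ ∈ O, (x + μ) := by
      rw [Finset.sum_add_distrib, Finset.sum_const, nsmul_odd hcard]
    rw [h1]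
    refine U.sum_mem fun μ hμ => ?_
    obtain ⟨l, hl, rfl⟩ := (hO μ).mp hμ
    rw [hs, ← add_assoc, add_comm x]
    exact U.add_mem (hU l hl) (U.smul_mem _ hyU)
  · intro κ hκ
    have h1 : ∀ μ ∈ O, ψ κ μ + μ = ψ κ x + x := by
      intro μ hμ
      obtain ⟨l, hl, rfl⟩ := (hO μ).mp hμ
      have h2 := hκ l hl
      rw [map_add] at h2
      rw [hs, map_add, map_smul, hy]
      have e1 : ψ κ (ψ l x) = ψ l x + x + ψ κ x := by
        rw [← h2, add_assoc, addself, add_zero]
      rw [e1]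
      have e2 := addself (ψ l x)
      have e3 := addself (π (ψ l x) • y)
      calc ψ l x + x + ψ κ x + π (ψ l x) • y + (ψ l x + π (ψ l x) • y)
          = (ψ l x + ψ l x) + (π (ψ l x) • y + π (ψ l x) • y) + (ψ κ x + x) := by abel
        _ = ψ κ x + x := by rw [e2, e3, add_zero, zero_add]
    have h3 : ψ κ (∑ μ ∈ O, μ) + ∑ μ ∈ O, μ = ψ κ x + x := by
      rw [map_sum, ← Finset.sum_add_distrib, Finset.sum_congr rfl h1, Finset.sum_const, nsmul_odd hcard]
    have h4 : ψ κ (∑ μ ∈ O, μ) = ψ κ x + x + ∑ μ ∈ O, μ := by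
      rw [← h3, add_assoc, addself, add_zero]
    rw [map_add, h4]
    calc ψ κ x + (ψ κ x + x + ∑ μ ∈ O, μ) = (ψ κ x + ψ κ x) + (x + ∑ μ ∈ O, μ) := by abel
      _ = _ := by rw [addself, zero_add]
  · intro f hf hff hX
    have hψ : ∀ w, ψ f (ψ f w) = w := by
      intro w
      rw [← hmul, hff, map_one]; rfl
    have h1 : ∀ μ ∈ O, π (ψ f (s (ψ f μ))) = π (ψ f μ) := by
      intro μ hμ
      rw [hs, map_add, map_smul, hy, hψ, map_add, map_smul, hπ, hπO μ hμ, smul_eq_mul, mul_one, zero_add]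
    have h2 : ∑ μ ∈ O, π (ψ f μ) = 0 := by
      refine Finset.sum_involution (fun μ _ => s (ψ f μ)) ?_ ?_ (fun μ hμ => hact f μ hμ) ?_
      · intro μ hμ
        rw [h1 μ hμ]
        exact FOne.Tvw.z2add _
      · intro μ hμ hne hfix
        apply hne
        refine (z2 _).resolve_right fun h3 => ?_
        obtain ⟨l, hl, rfl⟩ := (hO μ).mp hμ
        rw [hs (ψ f _), h3, one_smul] at hfix
        -- `ψ f μ = μ + y`
        have h4 : ψ f (s (ψ l x)) = s (ψ l x) + y := by
          conv_rhs => rw [← hfix]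
          rw [add_assoc, addself, add_zero]
        rw [hs, map_add, map_smul, hy] at h4
        apply hX l hl
        have h5 : ψ f (ψ l x) + π (ψ l x) • y = (ψ l x + y) + π (ψ l x) • y := by
          rw [h4]; abel
        exact add_right_cancel h5
      · intro μ hμ
        show s (ψ f (s (ψ f μ))) = μ
        rw [hsg, hψ]
        exact hs0 (hπO μ hμ)
    have h3 : ψ f (∑ μ ∈ O, μ) = ∑ μ ∈ O, (s (ψ f μ) + π (ψ f μ) • y) := by
      rw [map_sum]
      refine Finset.sum_congr rfl fun μ _ => ?_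
      rw [hs, add_assoc, addself, add_zero]
    rw [h3, Finset.sum_add_distrib, hperm f, ← Finset.sum_smul, h2, zero_smul, add_zero]

end Cfsg.Agent.Omega.NO3S.FarQ.AB
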