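import Cfsg.Agent.Omega.NO3S.FarQ.AB.Orb
import Cfsg.Agent.Omega.NO3S.FarQ.Free.Mover

/-!
# THEOREM AB (helper937, bb OMEGA #20929), part (6): the configuration

`Γ = C_G(p)` acts on `V = W_p`, `y` = the vector of `p`, `x` a point over `lam`, `Nb = N_p`, `Kp = K_p`,
`Sy` = the preimage of `T`, `Ad` = the elements of `W_q` with `[W_p, a] ≤ N_p`, `Q = O₂(C_G(V_l)) ∩ Γ`.

* `Sit ψ y x Nb Sy Kp Q Ad` : the input from (1), (2);
* `c1 Sy Ad = ⟨Sy, Ad, E_f : f ∈ Ad⟩`, `E_f` = the elements of odd order inverted by `f`;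
* `Mv` : the vector `m = x + v`;  `exists_mv` : it exists.
-/

set_option autoImplicit false
set_option linter.unusedSectionVars false

namespace Cfsg.Agent.Omega.NO3S.FarQ.AB

open Subgroup
open Cfsg.Agent.Omega.FOne.Tvw (z2 addself)

section e2

variable {V : Type*} [AddCommGroup V] [Module (ZMod 2) V]

/-- equal modulo `y` -/
abbrev E2 (y a b : V) : Prop := a = b ∨ a = b + y

theorem E2.rfl' {y a : V} : E2 y a a := Or.inl rfl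

theorem addy (a y : V) : a + y + y = a := by rw [add_assoc, addself, add_zero]

theorem E2.symm {y a b : V} (h : E2 y a b) : E2 y b a := by
  rcases h with rfl | rfl
  · exact Or.inl rfl
  · right; rw [addy]

theorem E2.trans {y a b c : V} (h : E2 y a b) (h' : E2 y b c) : E2 y a c := by
  rcases h with rfl | rfl
  · exact h'
  · rcases h' with rfl | rfl
    · exact Or.inr rfl
    · left; rw [addy]

theorem E2.add {y a b c d : V} (h : E2 y a b) (h' : E2 y c d) : E2 y (a + c) (b + d) := by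
  rcases h with rfl | rfl <;> rcases h' with rfl | rfl
  · exact Or.inl rfl
  · right; rw [add_assoc]
  · right; abel
  · left
    calc b + y + (d + y) = b + d + (y + y) := by abel
      _ = b + d := by rw [addself, add_zero]

theorem add_cancel' {a b : V} : a + b + b = a := by rw [add_assoc, addself, add_zero]

/-- cancel a summand which is fixed modulo `y` -/
theorem E2.cancel {y a b c d : V} (h : E2 y (a + c) (b + d)) (h' : E2 y c d) : E2 y a b := by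
  have h1 := h.add h'
  have e1 : a + c + c = a := add_cancel'
  have e2 : b + d + d = b := add_cancel'
  rwa [e1, e2] at h1

end e2

variable {Γ : Type*} [Group Γ] {V : Type*} [AddCommGroup V] [Module (ZMod 2) V]

/-- The input for (6). -/
structure Sit (ψ : Γ →* (V ≃ₗ[ZMod 2] V)) (y x : V) (Nb : Submodule (ZMod 2) V) (Sy Kp Q Ad : Subgroup Γ) :
    Prop where
  y0 : y ≠ 0
  fixy : ∀ g, ψ g y = y
  yN : y ∈ Nb
  Ninv : ∀ g, ∀ v ∈ Nb, ψ g v ∈ Nb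
  Kle : Kp ≤ Sy
  KN : ∀ k ∈ Kp, ∀ v ∈ Nb, ψ k v = v
  Kt : ∀ k ∈ Kp, ∀ v, ψ k v = v ∨ ψ k v = v + y
  two : ∀ s ∈ Sy, ∃ n : ℕ, s ^ 2 ^ n ∈ Kp
  syl : ¬ 2 ∣ Sy.index
  fixT : ∀ v, (∀ s ∈ Sy, ψ s v = v) → v = 0 ∨ v = y
  Tx : ∀ s ∈ Sy, ψ s x = x ∨ ψ s x = x + y
  Ax : ∀ a ∈ Ad, ψ a x = x
  AQ : Ad ≤ Q
  Q2 : IsPGroup 2 Q
  Qn : ∀ g, (ψ g x = x ∨ ψ g x = x + y) → ∀ q ∈ Q, g * q * g⁻¹ ∈ Q
  sq : ∀ a ∈ Ad, a * a = 1
  AN : ∀ a ∈ Ad, ∀ v, ψ a v + v ∈ Nb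
  quad : ∀ a ∈ Ad, ∀ b ∈ Ad, ∀ w, ψ b (ψ a w + w) = ψ a w + w
  /-- (X) -/
  X : ∀ a ∈ Ad, ∀ g, ψ a (ψ g x) ≠ ψ g x + y
  /-- movers -/
  inv : ∀ f ∈ Ad, ψ f ≠ 1 → ∃ h, Odd (orderOf h) ∧ f * h * f⁻¹ = h⁻¹ ∧ ψ f (ψ h x) ≠ ψ h x
  /-- (P), type (i) -/
  P : ∀ f ∈ Ad, ∀ h, Odd (orderOf h) → f * h * f⁻¹ = h⁻¹ → ∀ Ks : Subgroup Γ, Kp ≤ Ks →
    (∀ k ∈ Ks, f * k * f⁻¹ ∈ Ks) →
    (∀ k ∈ Ks, ∀ n : ℤ, ψ k (ψ (h ^ n) x) = ψ (h ^ n) x ∨ ψ k (ψ (h ^ n) x) = ψ (h ^ n) x + y) →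
    ∀ k ∈ Ks, ψ k (ψ h x + x) = ψ h x + x
  /-- (2) -/
  cnt : Nat.card Nb ≤
    Nat.card (Ad.map ψ) * Nat.card {v : V // v ∈ Nb ∧ ∀ a ∈ Ad, ψ a v = v ∨ ψ a v = v + y}
  cfix : ∀ v ∈ Nb, (∀ a ∈ Ad, ψ a v = v ∨ ψ a v = v + y) → ∀ a ∈ Ad, ψ a v = v

/-- the elements of odd order inverted by some `f ∈ Ad` -/
def inv1 (Ad : Subgroup Γ) : Set Γ := {h | Odd (orderOf h) ∧ ∃ f ∈ Ad, f * h * f⁻¹ = h⁻¹}

/-- `⟨Sy, Ad, E_f⟩` -/
def c1 (Sy Ad : Subgroup Γ) : Subgroup Γ := closure ((Sy : Set Γ) ∪ Ad ∪ inv1 Ad)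

theorem sy_le {Sy Ad : Subgroup Γ} : Sy ≤ c1 Sy Ad := fun _ h => subset_closure (Or.inl (Or.inl h))

theorem ad_le {Sy Ad : Subgroup Γ} : Ad ≤ c1 Sy Ad := fun _ h => subset_closure (Or.inl (Or.inr h))

theorem inv1_le {Sy Ad : Subgroup Γ} {h : Γ} (hh : h ∈ inv1 Ad) : h ∈ c1 Sy Ad := subset_closure (Or.inr hh)

/-- the normal closure of `Ad` in `c1` -/
def l1 (Sy Ad : Subgroup Γ) : Subgroup (c1 Sy Ad) := normalClosure ((Ad.subgroupOf (c1 Sy Ad) : Subgroup _) : Set _)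

instance {Sy Ad : Subgroup Γ} : (l1 Sy Ad).Normal := normalClosure_normal

theorem ad_mem_l1 {Sy Ad : Subgroup Γ} {f : c1 Sy Ad} (hf : (f : Γ) ∈ Ad) : f ∈ l1 Sy Ad :=
  subset_normalClosure (mem_subgroupOf.mpr hf)

theorem inv1_mem_l1 {Sy Ad : Subgroup Γ} {h : c1 Sy Ad} (hh : (h : Γ) ∈ inv1 Ad) : h ∈ l1 Sy Ad := by
  obtain ⟨ho, f, hf, hi⟩ := hh
  let f' : c1 Sy Ad := ⟨f, ad_le hf⟩
  have hi' : f' * h * f'⁻¹ = h⁻¹ := Subtype.ext hi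
  have ho' : Odd (orderOf h) := by rwa [← orderOf_coe]
  refine Free.mem_of_sq_mem ho' ?_
  rw [← Free.conj_eq_sq hi']
  exact (l1 Sy Ad).mul_mem (Normal.conj_mem inferInstance _ (ad_mem_l1 hf) h) ((l1 Sy Ad).inv_mem (ad_mem_l1 hf))

theorem sup_eq_top {Sy Ad : Subgroup Γ} : l1 Sy Ad ⊔ Sy.subgroupOf (c1 Sy Ad) = ⊤ := by
  rw [eq_top_iff]
  rintro ⟨g, hg⟩ -
  refine closure_induction (p := fun g hg => (⟨g, hg⟩ : c1 Sy Ad) ∈ l1 Sy Ad ⊔ Sy.subgroupOf (c1 Sy Ad))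
    ?_ ?_ ?_ ?_ hg
  · rintro g ((h | h) | h)
    · exact mem_sup_right (mem_subgroupOf.mpr h)
    · exact mem_sup_left (ad_mem_l1 h)
    · exact mem_sup_left (inv1_mem_l1 h)
  · exact one_mem _
  · intro a b ha hb h1 h2
    exact mul_mem h1 h2
  · intro a ha h1
    exact inv_mem h1

/-- The vector `m`. -/
structure Mv (ψ : Γ →* (V ≃ₗ[ZMod 2] V)) (y x m : V) (Nb : Submodule (ZMod 2) V) (Sy Ad : Subgroup Γ) : Prop where
  mN : m ∈ Nb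
  /-- same stabilisers modulo `y` -/
  iff : ∀ κ ∈ c1 Sy Ad, ∀ g ∈ c1 Sy Ad, E2 y (ψ κ (ψ g m)) (ψ g m) ↔ E2 y (ψ κ (ψ g x)) (ψ g x)
  /-- (c) -/
  faith : ∀ κ ∈ c1 Sy Ad, (∀ g ∈ c1 Sy Ad, E2 y (ψ κ (ψ g m)) (ψ g m)) → ∀ g ∈ c1 Sy Ad, ψ κ (ψ g m) = ψ g m
  /-- (b), (NSW) -/
  nsw : ∀ f ∈ Ad, ∀ g ∈ c1 Sy Ad, E2 y (ψ f (ψ g m)) (ψ g m) → ψ f (ψ g m) = ψ g m
  Tm : ∀ s ∈ Sy, E2 y (ψ s m) m
  mv : ∀ f ∈ Ad, ψ f ≠ 1 → ∃ h ∈ c1 Sy Ad, ¬ E2 y (ψ f (ψ h m)) (ψ h m)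

variable {ψ : Γ →* (V ≃ₗ[ZMod 2] V)} {y x : V} {Nb : Submodule (ZMod 2) V} {Sy Kp Q Ad : Subgroup Γ}

theorem hmul (ψ : Γ →* (V ≃ₗ[ZMod 2] V)) (g h : Γ) (w : V) : ψ (g * h) w = ψ g (ψ h w) := by rw [map_mul]; rfl

theorem hinv (ψ : Γ →* (V ≃ₗ[ZMod 2] V)) (g : Γ) (w : V) : ψ g⁻¹ (ψ g w) = w := by
  rw [← hmul, inv_mul_cancel, map_one]; rfl

theorem hinv' (ψ : Γ →* (V ≃ₗ[ZMod 2] V)) (g : Γ) (w : V) : ψ g (ψ g⁻¹ w) = w := by
  rw [← hmul, mul_inv_cancel, map_one]; rfl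

theorem E2.map {a b : V} (hy : ∀ g, ψ g y = y) (g : Γ) (h : E2 y a b) : E2 y (ψ g a) (ψ g b) := by
  rcases h with rfl | rfl
  · exact Or.inl rfl
  · right; rw [map_add, hy]

variable (S : Sit ψ y x Nb Sy Kp Q Ad)
include S

/-- `D ∩ c1` contains `l1` -/
theorem Sit.l1_N {l : c1 Sy Ad} (hl : l ∈ l1 Sy Ad) (v : V) : ψ (l : Γ) v + v ∈ Nb := by
  let D : Subgroup (c1 Sy Ad) :=
    { carrier := {g | ∀ v, ψ (g : Γ) v + v ∈ Nb}
      one_mem' := by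
        intro v
        rw [OneMemClass.coe_one, map_one]
        change v + v ∈ Nb
        rw [addself]; exact Nb.zero_mem
      mul_mem' := by
        intro a b ha hb v
        rw [Subgroup.coe_mul, hmul]
        have h1 := Nb.add_mem (ha (ψ (b : Γ) v)) (hb v)
        have e : ψ (a : Γ) (ψ (b : Γ) v) + ψ (b : Γ) v + (ψ (b : Γ) v + v) = ψ (a : Γ) (ψ (b : Γ) v) + v := by
          calc _ = ψ (a : Γ) (ψ (b : Γ) v) + v + (ψ (b : Γ) v + ψ (b : Γ) v) := by abel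
            _ = _ := by rw [addself, add_zero]
        rwa [e] at h1
      inv_mem' := by
        intro a ha v
        have h1 := ha (ψ ((a : Γ)⁻¹) v)
        rw [hinv'] at h1
        rw [Subgroup.coe_inv, add_comm]
        exact h1 }
  have hD : D.Normal := by
    refine ⟨fun n hn g v => ?_⟩
    rw [Subgroup.coe_mul, Subgroup.coe_mul, Subgroup.coe_inv, hmul, hmul]
    have h1 := S.Ninv g _ (hn (ψ (g : Γ)⁻¹ v))
    rwa [map_add, hinv'] at h1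
  have h1 : l1 Sy Ad ≤ D := normalClosure_le_normal fun a ha => S.AN a (mem_subgroupOf.mp ha)
  exact h1 hl v

/-- the constancy of `θ` -/
theorem Sit.const {κ : c1 Sy Ad} (hκ : ∀ g ∈ c1 Sy Ad, E2 y (ψ (κ : Γ) (ψ g x)) (ψ g x)) {g : Γ} (hg : g ∈ c1 Sy Ad) :
    ψ (κ : Γ) (ψ g x + x) = ψ g x + x := by
  let Ks : Subgroup Γ :=
    { carrier := {κ | κ ∈ c1 Sy Ad ∧ ∀ g ∈ c1 Sy Ad, E2 y (ψ κ (ψ g x)) (ψ g x)}
      one_mem' := ⟨one_mem _, fun g _ => by rw [map_one]; exact Or.inl rfl⟩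
      mul_mem' := by
        rintro a b ⟨ha, ha'⟩ ⟨hb, hb'⟩
        refine ⟨mul_mem ha hb, fun g hg => ?_⟩
        rw [hmul]
        exact ((hb' g hg).map S.fixy a).trans (ha' g hg)
      inv_mem' := by
        rintro a ⟨ha, ha'⟩
        refine ⟨inv_mem ha, fun g hg => ?_⟩
        have h1 := (ha' g hg).map S.fixy a⁻¹
        rw [hinv] at h1
        exact h1.symm }
  have hn : ∀ c ∈ c1 Sy Ad, ∀ k ∈ Ks, c * k * c⁻¹ ∈ Ks := by
    rintro c hc k ⟨hk, hk'⟩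
    refine ⟨mul_mem (mul_mem hc hk) (inv_mem hc), fun g hg => ?_⟩
    have h1 := (hk' (c⁻¹ * g) (mul_mem (inv_mem hc) hg)).map S.fixy c
    rw [hmul ψ c⁻¹ g, hinv'] at h1
    rwa [hmul, hmul]
  have hn' : ∀ c ∈ c1 Sy Ad, ∀ k ∈ Ks, c⁻¹ * k * c ∈ Ks := by
    intro c hc k hk
    have := hn c⁻¹ (inv_mem hc) k hk
    rwa [inv_inv] at this
  -- the elements `g` with `[κ, g x + x] = 0`
  let St : Subgroup Γ :=
    { carrier := {g | g ∈ c1 Sy Ad ∧ ∀ k ∈ Ks, ψ k (ψ g x + x) = ψ g x + x}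
      one_mem' := ⟨one_mem _, fun k _ => by
        rw [map_one]
        change ψ k (x + x) = x + x
        rw [addself, map_zero]⟩
      mul_mem' := by
        rintro a b ⟨ha, ha'⟩ ⟨hb, hb'⟩
        refine ⟨mul_mem ha hb, fun k hk => ?_⟩
        have e : ψ (a * b) x + x = ψ a (ψ b x + x) + (ψ a x + x) := by
          rw [hmul, map_add]
          calc _ = ψ a (ψ b x) + x + (ψ a x + ψ a x) := by rw [addself, add_zero]
            _ = _ := by abel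
        have h1 := hb' _ (hn' a ha k hk)
        have h2 : ψ k (ψ a (ψ b x + x)) = ψ a (ψ b x + x) := by
          have h3 := congrArg (ψ a) h1
          rw [hmul ψ (a⁻¹ * k) a, hmul ψ a⁻¹ k, hinv'] at h3
          exact h3
        rw [e, map_add, h2, ha' k hk]
      inv_mem' := by
        rintro a ⟨ha, ha'⟩
        refine ⟨inv_mem ha, fun k hk => ?_⟩
        have e : ψ a⁻¹ x + x = ψ a⁻¹ (ψ a x + x) := by
          rw [map_add, hinv, add_comm]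
        have h1 := ha' _ (hn a ha k hk)
        rw [e]
        have h3 := congrArg (ψ a⁻¹) h1
        rw [hmul ψ (a * k) a⁻¹, hmul ψ a k, hinv] at h3
        exact h3 }
  have hle : c1 Sy Ad ≤ St := by
    refine (closure_le _).mpr ?_
    rintro g ((hg | hg) | hg)
    · refine ⟨sy_le hg, fun k _ => ?_⟩
      rcases S.Tx g hg with h | h <;> rw [h]
      · rw [addself, map_zero]
      · have e : x + y + x = y := by
          calc x + y + x = (x + x) + y := by abel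
            _ = y := by rw [addself, zero_add]
        rw [e, S.fixy]
    · refine ⟨ad_le hg, fun k _ => ?_⟩
      rw [S.Ax g hg, addself, map_zero]
    · refine ⟨inv1_le hg, ?_⟩
      obtain ⟨ho, f, hf, hi⟩ := hg
      refine S.P f hf g ho hi Ks ?_ (fun k hk => hn f (ad_le hf) k hk) ?_
      · intro k hk
        exact ⟨sy_le (S.Kle hk), fun g _ => S.Kt k hk _⟩
      · intro k hk n
        exact hk.2 _ (zpow_mem (inv1_le ⟨ho, f, hf, hi⟩) n)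
  exact (hle hg).2 κ ⟨κ.2, hκ⟩

/-- **The vector `m` exists.** -/
theorem Sit.exists_mv [Finite Γ] [Finite V] : ∃ m, Mv ψ y x m Nb Sy Ad := by
  let ψ1 : c1 Sy Ad →* (V ≃ₗ[ZMod 2] V) := ψ.comp (c1 Sy Ad).subtype
  have hψ1 : ∀ g : c1 Sy Ad, ψ1 g = ψ (g : Γ) := fun _ => rfl
  have hidx : ¬ 2 ∣ (Sy.subgroupOf (c1 Sy Ad)).index := fun h =>
    S.syl (h.trans (relIndex_dvd_index_of_le sy_le))
  obtain ⟨v, va, vb, vc, vd⟩ := exists_sum ψ1 (y := y) (x := x) (L := l1 Sy Ad) (T := Sy.subgroupOf (c1 Sy Ad)) S.y0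
    (fun g => S.fixy g) sup_eq_top hidx (fun t ht => S.Tx t (mem_subgroupOf.mp ht))
  have va' : ∀ g ∈ c1 Sy Ad, E2 y (ψ g v) v := fun g hg => va ⟨g, hg⟩
  have hiff : ∀ κ ∈ c1 Sy Ad, ∀ g ∈ c1 Sy Ad, E2 y (ψ κ (ψ g (x + v))) (ψ g (x + v)) ↔
      E2 y (ψ κ (ψ g x)) (ψ g x) := by
    intro κ hκ g hg
    have h1 : E2 y (ψ κ (ψ g v)) (ψ g v) := by
      have h2 := va' _ (mul_mem hκ hg)
      rw [hmul] at h2
      exact h2.trans (va' g hg).symm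
    rw [map_add, map_add]
    exact ⟨fun h => h.cancel h1, fun h => h.add h1⟩
  have hX : ∀ f ∈ Ad, ∀ g, E2 y (ψ f (ψ g x)) (ψ g x) → ψ f (ψ g x) = ψ g x := fun f hf g h =>
    h.resolve_right (S.X f hf g)
  refine ⟨x + v, ?_, hiff, ?_, ?_, ?_, ?_⟩
  · exact vb Nb S.yN fun l hl => S.l1_N hl x
  · -- (c)
    intro κ hκ h g hg
    have h1 : ∀ κ ∈ c1 Sy Ad, (∀ g ∈ c1 Sy Ad, E2 y (ψ κ (ψ g x)) (ψ g x)) → ψ κ (x + v) = x + v := by
      intro κ hκ h1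
      exact vc ⟨κ, hκ⟩ fun l _ => S.const (κ := ⟨κ, hκ⟩) h1 l.2
    have h2 : ∀ g ∈ c1 Sy Ad, E2 y (ψ κ (ψ g x)) (ψ g x) := fun g hg => (hiff κ hκ g hg).mp (h g hg)
    have h3 := h1 (g⁻¹ * κ * g) (mul_mem (mul_mem (inv_mem hg) hκ) hg) fun g' hg' => by
      have h4 := (h2 (g * g') (mul_mem hg hg')).map S.fixy g⁻¹
      rw [hmul ψ g g', hinv] at h4
      rwa [hmul, hmul]
    have h5 := congrArg (ψ g) h3
    rwa [hmul, hmul, hinv'] at h5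
  · -- (NSW)
    intro f hf g hg h
    have h1 := hX f hf g ((hiff f (ad_le hf) g hg).mp h)
    have h2 : ψ f v = v := by
      refine vd ⟨f, ad_le hf⟩ (ad_mem_l1 hf) (Subtype.ext (S.sq f hf)) fun l _ => S.X f hf l
    rw [map_add, map_add, h1]
    congr 1
    rcases va' g hg with h3 | h3 <;> rw [h3]
    · exact h2
    · rw [map_add, h2, S.fixy]
  · intro s hs
    rw [map_add]
    exact E2.add (S.Tx s hs) (va' s (sy_le hs))
  · intro f hf hf1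
    obtain ⟨h, ho, hi, hm⟩ := S.inv f hf hf1
    have hh : h ∈ c1 Sy Ad := inv1_le ⟨ho, f, hf, hi⟩
    refine ⟨h, hh, fun h1 => ?_⟩
    exact hm (hX f hf h ((hiff f (ad_le hf) h hh).mp h1))

end Cfsg.Agent.Omega.NO3S.FarQ.AB
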