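import Cfsg.Agent.Omega.NO3S.FarQ.AB.Lv

/-!
# THEOREM AB (helper937, bb OMEGA #20929), part (6): `A_D = 1`

* `restr` : restriction to an invariant subspace;
* `Sit.bot` : **`Sit ψ y x Nb Sy Kp Q Ad`, MLK, `PTv` : `ψ a = 1` for all `a ∈ Ad`**.
-/

set_option autoImplicit false
set_option linter.unusedSectionVars false

namespace Cfsg.Agent.Omega.NO3S.FarQ.AB

open Subgroup Cfsg
open Cfsg.Agent.Omega.FOne.Tvw (Base IsTv z2 addself)
open Cfsg.Agent.Omega.FOne.NOv (PTv)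

universe u

section restr

variable {Γ : Type*} [Group Γ] {V : Type*} [AddCommGroup V] [Module (ZMod 2) V]

/-- restriction to an invariant subspace -/
def restr (ψ : Γ →* (V ≃ₗ[ZMod 2] V)) (U : Submodule (ZMod 2) V) (hU : ∀ g, ∀ u ∈ U, ψ g u ∈ U) :
    Γ →* (U ≃ₗ[ZMod 2] U) where
  toFun g :=
    { toFun := fun u => ⟨ψ g u, hU g u u.2⟩
      map_add' := fun a b => Subtype.ext (map_add (ψ g) (a : V) b)
      map_smul' := fun c a => Subtype.ext (map_smul (ψ g) c (a : V))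
      invFun := fun u => ⟨ψ g⁻¹ u, hU g⁻¹ u u.2⟩
      left_inv := fun u => Subtype.ext (hinv ψ g u)
      right_inv := fun u => Subtype.ext (hinv' ψ g u) }
  map_one' := by
    ext u
    change (ψ 1 (u : V)) = u
    rw [map_one]; rfl
  map_mul' g h := by
    ext u
    change ψ (g * h) (u : V) = ψ g (ψ h u)
    exact hmul ψ g h u

theorem coe_restr (ψ : Γ →* (V ≃ₗ[ZMod 2] V)) (U : Submodule (ZMod 2) V) (hU : ∀ g, ∀ u ∈ U, ψ g u ∈ U) (g : Γ)
    (u : U) : ((restr ψ U hU g u : U) : V) = ψ g u := rfl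

end restr

variable {Γ : Type u} [Group Γ] {V : Type u} [AddCommGroup V] [Module (ZMod 2) V]
variable {ψ : Γ →* (V ≃ₗ[ZMod 2] V)} {y x m : V} {Nb : Submodule (ZMod 2) V} {Sy Kp Q Ad : Subgroup Γ}

/-- `W_1` -/
def u1 (ψ : Γ →* (V ≃ₗ[ZMod 2] V)) (y m : V) (Sy Ad : Subgroup Γ) : Submodule (ZMod 2) V :=
  Submodule.span (ZMod 2) ({y} ∪ {w | ∃ g ∈ c1 Sy Ad, ψ g m = w})

theorem y_mem_u1 : y ∈ u1 ψ y m Sy Ad := Submodule.subset_span (Or.inl rfl)

theorem gm_mem_u1 {g : Γ} (hg : g ∈ c1 Sy Ad) : ψ g m ∈ u1 ψ y m Sy Ad := Submodule.subset_span (Or.inr ⟨g, hg, rfl⟩)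

theorem m_mem_u1 : m ∈ u1 ψ y m Sy Ad := by
  have := gm_mem_u1 (ψ := ψ) (y := y) (m := m) (one_mem (c1 Sy Ad))
  rwa [map_one] at this

theorem u1_inv (fixy : ∀ g, ψ g y = y) {g : Γ} (hg : g ∈ c1 Sy Ad) {u : V} (hu : u ∈ u1 ψ y m Sy Ad) :
    ψ g u ∈ u1 ψ y m Sy Ad := by
  have h1 : u1 ψ y m Sy Ad ≤ (u1 ψ y m Sy Ad).comap (ψ g : V →ₗ[ZMod 2] V) := by
    refine Submodule.span_le.mpr ?_
    rintro w (hw | ⟨k, hk, rfl⟩)
    · rw [Set.mem_singleton_iff.mp hw]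
      change ψ g y ∈ u1 ψ y m Sy Ad
      rw [fixy]; exact y_mem_u1
    · change ψ g (ψ k m) ∈ u1 ψ y m Sy Ad
      rw [← hmul]
      exact gm_mem_u1 (mul_mem hg hk)
  exact h1 hu

theorem card_le_aux [Finite V] {P C N : Submodule (ZMod 2) V} (hP : P ≤ N) (hC : C ≤ N) {a : ℕ}
    (h : Nat.card N ≤ a * Nat.card C) : Nat.card P ≤ a * Nat.card ↥(P ⊓ C) := by
  have h1 := FOne.NOv.card_sup_inf P C
  have h2 : Nat.card ↥(P ⊔ C) ≤ Nat.card N := FOne.NOv.card_le_of_le (sup_le hP hC)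
  have h3 : 0 < Nat.card C := Nat.card_pos
  have h4 : Nat.card P * Nat.card C ≤ (a * Nat.card ↥(P ⊓ C)) * Nat.card C := by
    rw [← h1]
    calc Nat.card ↥(P ⊔ C) * Nat.card ↥(P ⊓ C) ≤ (a * Nat.card C) * Nat.card ↥(P ⊓ C) :=
          Nat.mul_le_mul_right _ (h2.trans h)
      _ = _ := by ring
  exact Nat.le_of_mul_le_mul_right h4 h3

/-- **From `Sit` to `Lv`** -/
theorem Sit.lv [Finite Γ] [Finite V] (S : Sit ψ y x Nb Sy Kp Q Ad) (M : Mv ψ y x m Nb Sy Ad)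
    (kn : ∀ (Y : Type u) [Group Y] (f : c1 Sy Ad →* Y), IsKGroupWith IsKnownSimple' f.range)
    (hne : ∃ a ∈ Ad, ψ a ≠ 1) :
    Lv (restr (ψ.comp (c1 Sy Ad).subtype) (u1 ψ y m Sy Ad) fun g _ hu => u1_inv S.fixy g.2 hu) ⟨y, y_mem_u1⟩
      ⟨m, m_mem_u1⟩ (Sy.subgroupOf (c1 Sy Ad)) (Q.subgroupOf (c1 Sy Ad)) (Ad.subgroupOf (c1 Sy Ad)) := by
  classical
  set ρ := restr (ψ.comp (c1 Sy Ad).subtype) (u1 ψ y m Sy Ad) fun g _ hu => u1_inv S.fixy g.2 hu with hρ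
  have hco : ∀ (g : c1 Sy Ad) (u : u1 ψ y m Sy Ad), ((ρ g u : u1 ψ y m Sy Ad) : V) = ψ (g : Γ) u := fun _ _ => rfl
  have hE : ∀ a b : u1 ψ y m Sy Ad, E2 (⟨y, y_mem_u1⟩ : u1 ψ y m Sy Ad) a b ↔ E2 y (a : V) b := by
    intro a b
    constructor
    · rintro (h | h)
      · left; rw [h]
      · right; rw [h]; rfl
    · rintro (h | h)
      · left; exact Subtype.ext h
      · right; exact Subtype.ext h
  have hUN : u1 ψ y m Sy Ad ≤ Nb := by
    refine Submodule.span_le.mpr ?_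
    rintro w (hw | ⟨k, hk, rfl⟩)
    · rw [Set.mem_singleton_iff.mp hw]; exact S.yN
    · exact S.Ninv k m M.mN
  have hmne : m ≠ 0 ∧ m ≠ y := by
    obtain ⟨a, ha, ha1⟩ := hne
    obtain ⟨h, hh, hn⟩ := M.mv a ha ha1
    constructor
    · rintro rfl
      apply hn
      left
      rw [map_zero, map_zero]
    · rintro rfl
      apply hn
      left
      rw [S.fixy, S.fixy]
  have hAm : ∀ a ∈ Ad, ψ a m = m := by
    intro a ha
    have h1 := M.nsw a ha 1 (one_mem _)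
    have h2 := (M.iff a (ad_le ha) 1 (one_mem _)).mpr (by
      rw [map_one]
      change E2 y (ψ a x) x
      rw [S.Ax a ha]; exact Or.inl rfl)
    have h3 := h1 h2
    rw [map_one] at h3
    exact h3
  have htriv : ∀ a : c1 Sy Ad, (a : Γ) ∈ Ad → ρ a = 1 → ψ (a : Γ) = 1 := by
    intro a ha h1
    by_contra hcon
    obtain ⟨h, hh, hn⟩ := M.mv _ ha hcon
    apply hn
    left
    have h2 : ρ a ⟨ψ h m, gm_mem_u1 hh⟩ = ⟨ψ h m, gm_mem_u1 hh⟩ := by rw [h1]; rfl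
    exact congrArg Subtype.val h2
  refine
    { kn := kn _ ρ
      y0 := fun h => S.y0 (congrArg Subtype.val h)
      m0 := fun h => hmne.1 (congrArg Subtype.val h)
      my := fun h => hmne.2 (congrArg Subtype.val h)
      fixy := fun g => Subtype.ext (S.fixy g)
      span := ?_
      faith := ?_
      nsw := ?_
      T2 := ?_
      syl := fun h => S.syl (h.trans (relIndex_dvd_index_of_le sy_le))
      fixT := ?_
      Tm := fun t ht => (hE _ _).mpr (M.Tm t (mem_subgroupOf.mp ht))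
      AQ := fun a ha => mem_subgroupOf.mpr (S.AQ (mem_subgroupOf.mp ha))
      Q2 := S.Q2.comap_of_injective _ (subtype_injective _)
      Qn := ?_
      Am := fun a ha => Subtype.ext (hAm a (mem_subgroupOf.mp ha))
      sq := fun a ha => Subtype.ext (S.sq a (mem_subgroupOf.mp ha))
      quad := fun a ha b hb w => Subtype.ext (S.quad a (mem_subgroupOf.mp ha) b (mem_subgroupOf.mp hb) w)
      cnt := ?_
      cfix := ?_ }
  · -- span
    intro W hy hg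
    have h1 : u1 ψ y m Sy Ad ≤ W.map (u1 ψ y m Sy Ad).subtype := by
      refine Submodule.span_le.mpr ?_
      rintro w (hw | ⟨k, hk, rfl⟩)
      · rw [Set.mem_singleton_iff.mp hw]
        exact ⟨_, hy, rfl⟩
      · exact ⟨_, hg ⟨k, hk⟩, rfl⟩
    rw [eq_top_iff]
    rintro ⟨u, hu⟩ -
    obtain ⟨w, hw, e⟩ := h1 hu
    have : w = ⟨u, hu⟩ := Subtype.ext e
    rw [← this]; exact hw
  · intro κ h g
    refine Subtype.ext (M.faith κ κ.2 (fun g hg => ?_) g g.2)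
    exact (hE _ _).mp (h ⟨g, hg⟩)
  · intro f hf g h
    exact Subtype.ext (M.nsw f (mem_subgroupOf.mp hf) g g.2 ((hE _ _).mp h))
  · intro t ht
    obtain ⟨n, hn⟩ := S.two t (mem_subgroupOf.mp ht)
    refine ⟨n, ?_⟩
    rw [← map_pow]
    ext u
    have := S.KN _ hn u (hUN u.2)
    rw [hco, Subgroup.coe_pow, this]
    rfl
  · intro v hv
    rcases S.fixT v fun s hs => congrArg Subtype.val (hv ⟨s, sy_le hs⟩ (mem_subgroupOf.mpr hs)) with h | h
    · left; exact Subtype.ext h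
    · right; exact Subtype.ext h
  · intro g hg q hq
    rw [mem_subgroupOf] at hq ⊢
    refine S.Qn g ?_ q hq
    have h1 := (M.iff g g.2 1 (one_mem _)).mp (by
      rw [map_one]
      exact (hE _ _).mp hg)
    rw [map_one] at h1
    exact h1
  · -- the count
    let C : Submodule (ZMod 2) V :=
      { carrier := {v | v ∈ Nb ∧ ∀ a ∈ Ad, ψ a v = v ∨ ψ a v = v + y}
        zero_mem' := ⟨Nb.zero_mem, fun a _ => Or.inl (map_zero _)⟩
        add_mem' := fun {v w} hv hw => ⟨Nb.add_mem hv.1 hw.1, fun a ha => by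
          rw [map_add]
          exact E2.add (hv.2 a ha) (hw.2 a ha)⟩
        smul_mem' := fun c w hw => by
          rcases z2 c with rfl | rfl
          · rw [zero_smul]; exact ⟨Nb.zero_mem, fun a _ => Or.inl (map_zero _)⟩
          · rw [one_smul]; exact hw }
    have h1 := card_le_aux (P := u1 ψ y m Sy Ad) (C := C) hUN (fun v hv => hv.1) S.cnt
    have h2 : Nat.card (Ad.map ψ) ≤ Nat.card ((Ad.subgroupOf (c1 Sy Ad)).map ρ) := by
      have hfin : Finite (u1 ψ y m Sy Ad ≃ₗ[ZMod 2] u1 ψ y m Sy Ad) := DFunLike.finite _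
      have hch : ∀ φ : Ad.map ψ, ∃ a : c1 Sy Ad, (a : Γ) ∈ Ad ∧ ψ (a : Γ) = φ := by
        rintro ⟨_, a, ha, rfl⟩
        exact ⟨⟨a, ad_le ha⟩, ha, rfl⟩
      choose F hF1 hF2 using hch
      refine Nat.card_le_card_of_injective
        (fun φ => (⟨ρ (F φ), F φ, mem_subgroupOf.mpr (hF1 φ), rfl⟩ : (Ad.subgroupOf (c1 Sy Ad)).map ρ)) ?_
      intro φ φ' h
      have h3 : ρ (F φ) = ρ (F φ') := congrArg Subtype.val h
      have h4 : ρ (F φ * (F φ')⁻¹) = 1 := by rw [map_mul, map_inv, h3, mul_inv_cancel]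
      have h5 := htriv _ (Ad.mul_mem (hF1 φ) (Ad.inv_mem (hF1 φ'))) h4
      apply Subtype.ext
      rw [← hF2 φ, ← hF2 φ']
      have h6 : ψ ((F φ : Γ) * (F φ' : Γ)⁻¹) = 1 := h5
      rw [map_mul, map_inv] at h6
      exact mul_inv_eq_one.mp h6
    have h3 : Nat.card ↥(u1 ψ y m Sy Ad ⊓ C) ≤
        Nat.card {v : u1 ψ y m Sy Ad // ∀ a ∈ Ad.subgroupOf (c1 Sy Ad), E2 ⟨y, y_mem_u1⟩ (ρ a v) v} := by
      refine Nat.card_le_card_of_injective
        (fun v => ⟨⟨v.1, v.2.1⟩, fun a ha => (hE _ _).mpr (v.2.2.2 a (mem_subgroupOf.mp ha))⟩) ?_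
      intro v w h
      exact Subtype.ext (congrArg (fun t => ((t.1 : u1 ψ y m Sy Ad) : V)) h)
    exact h1.trans (Nat.mul_le_mul h2 h3)
  · intro v hv a ha
    refine Subtype.ext (S.cfix v (hUN v.2) (fun a ha => ?_) a (mem_subgroupOf.mp ha))
    exact (hE _ _).mp (hv ⟨a, ad_le ha⟩ (mem_subgroupOf.mpr ha))

/-- **(6) + (7): `A_D = 1`.** -/
theorem Sit.bot (hML : ML.Final.MLK.{u, u}) (hP : PTv.{u}) [Finite Γ] [Finite V] (S : Sit ψ y x Nb Sy Kp Q Ad)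
    (kn : ∀ (Δ : Subgroup Γ) (Y : Type u) [Group Y] (f : Δ →* Y), IsKGroupWith IsKnownSimple' f.range) :
    ∀ a ∈ Ad, ψ a = 1 := by
  intro a ha
  by_contra hcon
  obtain ⟨m, M⟩ := S.exists_mv
  have Λ := S.lv M (kn _) ⟨a, ha, hcon⟩
  have h1 := Λ.bot hML hP (a := ⟨a, ad_le ha⟩) (mem_subgroupOf.mpr ha)
  obtain ⟨h, hh, hn⟩ := M.mv a ha hcon
  apply hn
  left
  have h2 := congrArg (fun φ : u1 ψ y m Sy Ad ≃ₗ[ZMod 2] u1 ψ y m Sy Ad => ((φ ⟨ψ h m, gm_mem_u1 hh⟩ : _) : V)) h1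
  exact h2

end Cfsg.Agent.Omega.NO3S.FarQ.AB
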