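import Cfsg.Agent.Omega.FOne.TvwBasic
import Mathlib.GroupTheory.Sylow

/-!
# Theorem AB (bb OMEGA #20929, helper937), section (3): families of transvections

`M` an `𝔽₂`-space, `H` a group of automorphisms, `D` a subgroup normalised by `H`, `C` an `H`-invariant submodule.
`Ph D C e` : the functionals `φ` killing `C` and `e` such that the transvection `m ↦ m + φ(m) e` lies in `D`.
`Jn D C e d` : `e` and `d` are joined: `φ(d) = 1` for some `φ ∈ Ph D C e`.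

* `Jn.symm` : joined is symmetric on an `H`-orbit;
* `ph_inter` : `Ph e ∩ Ph d = {φ ∈ Ph e : φ(d) = 0}` for joined `e, d` in one orbit;
* `unique` : two centres `e, e + ν`, `ν ∈ C`, in one orbit: `ν = 0`;
* `trans` : the elements of `D` fixing `e` are transitive on the `d` joined to `e`.
-/

set_option autoImplicit false

namespace Cfsg.Agent.Omega.NO3S.AB

open Cfsg.Agent.Omega.FOne.Tvw (z2 addself faddself feq_of_add eq_of_add_eq_zero' z2add)

variable {M : Type*} [AddCommGroup M] [Module (ZMod 2) M]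

/-- the functionals `φ` killing `C` and `e` such that `m ↦ m + φ(m) e` lies in `D` -/
def Ph (D : Subgroup (M ≃ₗ[ZMod 2] M)) (C : Submodule (ZMod 2) M) (e : M) :
    Set (M →ₗ[ZMod 2] ZMod 2) :=
  {φ | (∀ c ∈ C, φ c = 0) ∧ φ e = 0 ∧ ∃ g ∈ D, ∀ m, g m = m + φ m • e}

/-- `e` and `d` are joined -/
def Jn (D : Subgroup (M ≃ₗ[ZMod 2] M)) (C : Submodule (ZMod 2) M) (e d : M) : Prop :=
  ∃ φ ∈ Ph D C e, φ d = 1

/-- `d` lies in the `H`-orbit of `e` -/
def Ob (H : Subgroup (M ≃ₗ[ZMod 2] M)) (e d : M) : Prop := ∃ h ∈ H, h e = d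

/-- `H` normalises `D` and stabilises `C` -/
structure Nm (H D : Subgroup (M ≃ₗ[ZMod 2] M)) (C : Submodule (ZMod 2) M) : Prop where
  nD : ∀ h ∈ H, ∀ g ∈ D, h * g * h⁻¹ ∈ D
  nC : ∀ h ∈ H, ∀ c ∈ C, h c ∈ C
  DH : D ≤ H

variable {H D : Subgroup (M ≃ₗ[ZMod 2] M)} {C : Submodule (ZMod 2) M} {e d d' ν : M}

theorem Ob.refl (H : Subgroup (M ≃ₗ[ZMod 2] M)) (e : M) : Ob H e e := ⟨1, H.one_mem, rfl⟩

theorem Ob.symm (h : Ob H e d) : Ob H d e := by
  obtain ⟨g, hg, rfl⟩ := h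
  exact ⟨g⁻¹, H.inv_mem hg, g.symm_apply_apply e⟩

theorem Ob.trans (h : Ob H e d) (h' : Ob H d d') : Ob H e d' := by
  obtain ⟨g, hg, rfl⟩ := h
  obtain ⟨g', hg', rfl⟩ := h'
  exact ⟨g' * g, H.mul_mem hg' hg, rfl⟩

theorem ph_zero (D : Subgroup (M ≃ₗ[ZMod 2] M)) (C : Submodule (ZMod 2) M) (e : M) : (0 : M →ₗ[ZMod 2] ZMod 2) ∈ Ph D C e :=
  ⟨fun _ _ => rfl, rfl, 1, D.one_mem, fun m => by
    rw [LinearMap.zero_apply, zero_smul, add_zero]; rfl⟩

theorem ph_add {φ ψ : M →ₗ[ZMod 2] ZMod 2} (h1 : φ ∈ Ph D C e) (h2 : ψ ∈ Ph D C e) : φ + ψ ∈ Ph D C e := by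
  obtain ⟨a1, b1, g1, hg1, k1⟩ := h1
  obtain ⟨a2, b2, g2, hg2, k2⟩ := h2
  refine ⟨fun c hc => by rw [LinearMap.add_apply, a1 c hc, a2 c hc, add_zero],
    by rw [LinearMap.add_apply, b1, b2, add_zero], g1 * g2, D.mul_mem hg1 hg2, fun m => ?_⟩
  have e1 : (g1 * g2) m = g1 (g2 m) := rfl
  rw [e1, k2, k1, map_add, map_smul, b1, smul_zero, add_zero, LinearMap.add_apply, add_smul]
  abel

theorem ph_cent {φ : M →ₗ[ZMod 2] ZMod 2} (h1 : φ ∈ Ph D C e) (h2 : φ ∈ Ph D C d) : φ ∈ Ph D C (e + d) := by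
  obtain ⟨a1, b1, g1, hg1, k1⟩ := h1
  obtain ⟨a2, b2, g2, hg2, k2⟩ := h2
  refine ⟨a1, by rw [map_add, b1, b2, add_zero], g1 * g2, D.mul_mem hg1 hg2, fun m => ?_⟩
  have e1 : (g1 * g2) m = g1 (g2 m) := rfl
  rw [e1, k2, k1, map_add, map_smul, b2, smul_zero, add_zero, smul_add]
  abel

theorem ph_conj (hN : Nm H D C) {h : M ≃ₗ[ZMod 2] M} (hh : h ∈ H) {φ : M →ₗ[ZMod 2] ZMod 2}
    (hφ : φ ∈ Ph D C e) : φ ∘ₗ (h⁻¹ : M ≃ₗ[ZMod 2] M).toLinearMap ∈ Ph D C (h e) := by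
  obtain ⟨a1, b1, g, hg, k⟩ := hφ
  have hinv : ∀ m, (h⁻¹ : M ≃ₗ[ZMod 2] M) (h m) = m := fun m => h.symm_apply_apply m
  have hinv' : ∀ m, h ((h⁻¹ : M ≃ₗ[ZMod 2] M) m) = m := fun m => h.apply_symm_apply m
  refine ⟨fun c hc => a1 _ (hN.nC _ (H.inv_mem hh) c hc), ?_, h * g * h⁻¹, hN.nD h hh g hg, fun m => ?_⟩
  · show φ ((h⁻¹ : M ≃ₗ[ZMod 2] M) (h e)) = 0
    rw [hinv, b1]
  · show h (g ((h⁻¹ : M ≃ₗ[ZMod 2] M) m)) = m + φ ((h⁻¹ : M ≃ₗ[ZMod 2] M) m) • h e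
    rw [k, map_add, hinv', map_smul]

/-- the transvection `1 + φ e` maps `Ph d` into `Ph (d + φ(d) e)` -/
theorem ph_tv (hN : Nm H D C) {φ ψ : M →ₗ[ZMod 2] ZMod 2} (hφ : φ ∈ Ph D C e) (hψ : ψ ∈ Ph D C d) :
    ψ + ψ e • φ ∈ Ph D C (d + φ d • e) := by
  obtain ⟨a1, b1, g, hg, k⟩ := hφ
  have h1 := ph_conj hN (hN.DH hg) hψ
  have hg2 : ∀ m, g (g m) = m := fun m => by
    rw [k, k, map_add, map_smul, b1, smul_zero, add_zero]
    have := addself (φ m • e)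
    linear_combination (norm := module) this
  have hi : ∀ m, (g⁻¹ : M ≃ₗ[ZMod 2] M) m = g m := fun m => by
    have : g ((g⁻¹ : M ≃ₗ[ZMod 2] M) m) = m := g.apply_symm_apply m
    apply g.injective
    rw [this, hg2]
  have e1 : ψ ∘ₗ (g⁻¹ : M ≃ₗ[ZMod 2] M).toLinearMap = ψ + ψ e • φ := by
    ext m
    show ψ ((g⁻¹ : M ≃ₗ[ZMod 2] M) m) = _
    rw [hi, k, map_add, map_smul, LinearMap.add_apply, LinearMap.smul_apply, smul_eq_mul, smul_eq_mul, mul_comm]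
  rw [e1, k] at h1
  exact h1

theorem finite_ph [Finite M] : (Ph D C e).Finite := by
  have : Finite (M →ₗ[ZMod 2] ZMod 2) :=
    Finite.of_injective (fun φ : M →ₗ[ZMod 2] ZMod 2 => (φ : M → ZMod 2)) DFunLike.coe_injective
  exact Set.toFinite _

theorem ncard_le [Finite M] (hN : Nm H D C) {h : M ≃ₗ[ZMod 2] M} (hh : h ∈ H) :
    (Ph D C e).ncard ≤ (Ph D C (h e)).ncard := by
  refine Set.ncard_le_ncard_of_injOn (fun φ => φ ∘ₗ (h⁻¹ : M ≃ₗ[ZMod 2] M).toLinearMap)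
    (fun φ hφ => ph_conj hN hh hφ) ?_ finite_ph
  intro φ _ ψ _ hE
  have hE' : φ ∘ₗ (h⁻¹ : M ≃ₗ[ZMod 2] M).toLinearMap = ψ ∘ₗ (h⁻¹ : M ≃ₗ[ZMod 2] M).toLinearMap := hE
  ext m
  have := LinearMap.congr_fun hE' (h m)
  have hinv : (h⁻¹ : M ≃ₗ[ZMod 2] M) (h m) = m := h.symm_apply_apply m
  change φ ((h⁻¹ : M ≃ₗ[ZMod 2] M) (h m)) = ψ ((h⁻¹ : M ≃ₗ[ZMod 2] M) (h m)) at this
  rwa [hinv] at this

theorem ncard_eq [Finite M] (hN : Nm H D C) (ho : Ob H e d) : (Ph D C e).ncard = (Ph D C d).ncard := by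
  obtain ⟨h, hh, rfl⟩ := ho
  refine le_antisymm (ncard_le hN hh) ?_
  have := ncard_le (e := h e) hN (H.inv_mem hh)
  have hinv : (h⁻¹ : M ≃ₗ[ZMod 2] M) (h e) = e := h.symm_apply_apply e
  rwa [hinv] at this

/-- joined is symmetric on an `H`-orbit -/
theorem Jn.symm [Finite M] (hN : Nm H D C) (ho : Ob H e d) (hj : Jn D C e d) : Jn D C d e := by
  by_contra hc
  obtain ⟨φ, hφ, hφd⟩ := hj
  have h0 : ∀ ψ ∈ Ph D C d, ψ e = 0 := fun ψ hψ => (z2 (ψ e)).resolve_right fun h => hc ⟨ψ, hψ, h⟩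
  have hsub : Ph D C d ⊆ Ph D C e := by
    intro ψ hψ
    have h1 := ph_tv hN hφ hψ
    rw [h0 ψ hψ, zero_smul, add_zero, hφd, one_smul] at h1
    have h2 := ph_cent h1 hψ
    have e2 : d + e + d = e := by
      have := addself d
      linear_combination (norm := module) this
    rwa [e2] at h2
  have heq : Ph D C d = Ph D C e :=
    Set.eq_of_subset_of_ncard_le hsub (ncard_eq hN ho).le finite_ph
  have h3 : φ ∈ Ph D C d := heq ▸ hφ
  have h4 : φ d = 0 := h3.2.1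
  rw [hφd] at h4
  exact one_ne_zero h4

/-- for joined `e, d` in one orbit: `φ ∈ Ph e` with `φ(d) = 0` lies in `Ph d` -/
theorem ph_inter [Finite M] (hN : Nm H D C) (ho : Ob H e d) (hj : Jn D C e d) {φ : M →ₗ[ZMod 2] ZMod 2}
    (hφ : φ ∈ Ph D C e) (h0 : φ d = 0) : φ ∈ Ph D C d := by
  obtain ⟨ψ, hψ, hψe⟩ := hj.symm hN ho
  have h1 := ph_tv hN hψ hφ
  rw [h0, zero_smul, add_zero, hψe, one_smul] at h1
  have h2 := ph_cent h1 hφ
  have e2 : e + d + e = d := by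
    have := addself e
    linear_combination (norm := module) this
  rwa [e2] at h2

/-- the elements of `D` stabilising `M ≥ U + C ≥ C ≥ 0` -/
def NN (D : Subgroup (M ≃ₗ[ZMod 2] M)) (C U : Submodule (ZMod 2) M) : Subgroup (M ≃ₗ[ZMod 2] M) where
  carrier := {g | g ∈ D ∧ (∀ m, g m + m ∈ U ⊔ C) ∧ (∀ u ∈ U ⊔ C, g u + u ∈ C) ∧ ∀ c ∈ C, g c = c}
  one_mem' := by
    refine ⟨D.one_mem, fun m => ?_, fun u _ => ?_, fun c _ => rfl⟩
    · have : (1 : M ≃ₗ[ZMod 2] M) m + m = 0 := addself m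
      rw [this]; exact Submodule.zero_mem _
    · have : (1 : M ≃ₗ[ZMod 2] M) u + u = 0 := addself u
      rw [this]; exact Submodule.zero_mem _
  mul_mem' := by
    rintro g g' ⟨h1, h2, h3, h4⟩ ⟨k1, k2, k3, k4⟩
    refine ⟨D.mul_mem h1 k1, fun m => ?_, fun u hu => ?_, fun c hc => ?_⟩
    · have e : (g * g') m + m = (g (g' m) + g' m) + (g' m + m) := by
        show g (g' m) + m = _
        have := addself (g' m)
        linear_combination (norm := module) -this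
      rw [e]; exact Submodule.add_mem _ (h2 _) (k2 _)
    · have hgu : g' u ∈ U ⊔ C := by
        have e : g' u = (g' u + u) + u := by
          have := addself u
          linear_combination (norm := module) -this
        rw [e]; exact Submodule.add_mem _ (k2 u) hu
      have e : (g * g') u + u = (g (g' u) + g' u) + (g' u + u) := by
        show g (g' u) + u = _
        have := addself (g' u)
        linear_combination (norm := module) -this
      rw [e]; exact Submodule.add_mem _ (h3 _ hgu) (k3 _ hu)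
    · show g (g' c) = c
      rw [k4 c hc, h4 c hc]
  inv_mem' := by
    rintro g ⟨h1, h2, h3, h4⟩
    have hi : ∀ m, g ((g⁻¹ : M ≃ₗ[ZMod 2] M) m) = m := fun m => g.apply_symm_apply m
    have hi' : ∀ m, (g⁻¹ : M ≃ₗ[ZMod 2] M) (g m) = m := fun m => g.symm_apply_apply m
    have hM : ∀ m, (g⁻¹ : M ≃ₗ[ZMod 2] M) m + m ∈ U ⊔ C := fun m => by
      have := h2 ((g⁻¹ : M ≃ₗ[ZMod 2] M) m)
      rw [hi] at this
      rwa [add_comm]
    refine ⟨D.inv_mem h1, hM, fun u hu => ?_, fun c hc => ?_⟩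
    · have hu' : (g⁻¹ : M ≃ₗ[ZMod 2] M) u ∈ U ⊔ C := by
        have e : (g⁻¹ : M ≃ₗ[ZMod 2] M) u = ((g⁻¹ : M ≃ₗ[ZMod 2] M) u + u) + u := by
          have := addself u
          linear_combination (norm := module) -this
        rw [e]; exact Submodule.add_mem _ (hM u) hu
      have := h3 _ hu'
      rw [hi] at this
      rwa [add_comm]
    · have := hi' c
      rwa [h4 c hc] at this

theorem mem_NN {D : Subgroup (M ≃ₗ[ZMod 2] M)} {C U : Submodule (ZMod 2) M} {g : M ≃ₗ[ZMod 2] M} :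
    g ∈ NN D C U ↔ g ∈ D ∧ (∀ m, g m + m ∈ U ⊔ C) ∧ (∀ u ∈ U ⊔ C, g u + u ∈ C) ∧ ∀ c ∈ C, g c = c := Iff.rfl

theorem NN_two (D : Subgroup (M ≃ₗ[ZMod 2] M)) (C U : Submodule (ZMod 2) M) : IsPGroup 2 (NN D C U) := by
  rintro ⟨g, hg⟩
  obtain ⟨-, h2, h3, h4⟩ := hg
  refine ⟨2, Subtype.ext ?_⟩
  show g ^ 2 ^ 2 = 1
  have key : ∀ m, ∃ c ∈ C, g (g m) = m + c := by
    intro m
    refine ⟨g (g m + m) + (g m + m), h3 _ (h2 m), ?_⟩
    rw [map_add]
    have h5 := addself (g m)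
    have h6 := addself m
    linear_combination (norm := module) -h5 - h6
  apply LinearEquiv.ext
  intro m
  obtain ⟨c, hc, hE⟩ := key m
  have e4 : g ^ 2 ^ 2 = g * g * (g * g) := by
    rw [show (2 : ℕ) ^ 2 = 1 + 1 + 1 + 1 from rfl]; simp only [pow_add, pow_one, mul_assoc]
  rw [e4]
  show g (g (g (g m))) = m
  rw [hE, map_add, map_add, h4 c hc, h4 c hc, hE]
  have := addself c
  linear_combination (norm := module) this

theorem NN_conj (hN : Nm H D C) {U : Submodule (ZMod 2) M} (hU : ∀ h ∈ H, ∀ u ∈ U, h u ∈ U) :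
    ∀ h ∈ H, ∀ g ∈ NN D C U, h * g * h⁻¹ ∈ NN D C U := by
  intro h hh g hg
  obtain ⟨h1, h2, h3, h4⟩ := hg
  have hi : ∀ m, h ((h⁻¹ : M ≃ₗ[ZMod 2] M) m) = m := fun m => h.apply_symm_apply m
  have hUC : ∀ h ∈ H, ∀ u ∈ U ⊔ C, h u ∈ U ⊔ C := by
    intro h hh u hu
    obtain ⟨a, ha, c, hc, rfl⟩ := Submodule.mem_sup.mp hu
    rw [map_add]
    exact Submodule.add_mem_sup (hU h hh a ha) (hN.nC h hh c hc)
  have e : ∀ m, (h * g * h⁻¹) m + m = h (g ((h⁻¹ : M ≃ₗ[ZMod 2] M) m) + (h⁻¹ : M ≃ₗ[ZMod 2] M) m) := by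
    intro m
    rw [map_add, hi]; rfl
  refine ⟨hN.nD h hh g h1, fun m => ?_, fun u hu => ?_, fun c hc => ?_⟩
  · rw [e]; exact hUC h hh _ (h2 _)
  · rw [e]; exact hN.nC h hh _ (h3 _ (hUC _ (H.inv_mem hh) u hu))
  · show h (g ((h⁻¹ : M ≃ₗ[ZMod 2] M) c)) = c
    rw [h4 _ (hN.nC _ (H.inv_mem hh) c hc), hi]

/-- the span of the orbit of `e` -/
def Us (H : Subgroup (M ≃ₗ[ZMod 2] M)) (e : M) : Submodule (ZMod 2) M := Submodule.span _ {d | Ob H e d}

theorem Us_inv : ∀ h ∈ H, ∀ u ∈ Us H e, h u ∈ Us H e := by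
  intro h hh u hu
  induction hu using Submodule.span_induction with
  | mem x hx =>
    obtain ⟨g, hg, rfl⟩ := hx
    exact Submodule.subset_span ⟨h * g, H.mul_mem hh hg, rfl⟩
  | zero => rw [map_zero]; exact Submodule.zero_mem _
  | add x y _ _ h1 h2 => rw [map_add]; exact Submodule.add_mem _ h1 h2
  | smul a x _ h1 => rw [map_smul]; exact Submodule.smul_mem _ _ h1

/-- no normal 2-subgroup of `H` inside `D` -/
def NoTwo (H D : Subgroup (M ≃ₗ[ZMod 2] M)) : Prop :=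
  ∀ N : Subgroup (M ≃ₗ[ZMod 2] M), N ≤ D → (∀ h ∈ H, ∀ g ∈ N, h * g * h⁻¹ ∈ N) → IsPGroup 2 N → N = ⊥

theorem NN_bot (hN : Nm H D C) (hO : NoTwo H D) : NN D C (Us H e) = ⊥ :=
  hO _ (fun _ hg => hg.1) (NN_conj hN Us_inv) (NN_two D C _)

/-- a nonzero functional of `Ph e` is nonzero at some orbit member -/
theorem ex_joined (hN : Nm H D C) (hO : NoTwo H D) (he : e ≠ 0) {φ : M →ₗ[ZMod 2] ZMod 2}
    (hφ : φ ∈ Ph D C e) (h0 : φ ≠ 0) : ∃ d, Ob H e d ∧ φ d = 1 := by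
  by_contra hc
  have hU : ∀ u ∈ Us H e, φ u = 0 := by
    intro u hu
    induction hu using Submodule.span_induction with
    | mem x hx => exact (z2 (φ x)).resolve_right fun h => hc ⟨x, hx, h⟩
    | zero => rw [map_zero]
    | add x y _ _ h1 h2 => rw [map_add, h1, h2, add_zero]
    | smul a x _ h1 => rw [map_smul, h1, smul_zero]
  obtain ⟨a1, b1, g, hg, k⟩ := hφ
  have hgN : g ∈ NN D C (Us H e) := by
    refine ⟨hg, fun m => ?_, fun u hu => ?_, fun c hc => by rw [k, a1 c hc, zero_smul, add_zero]⟩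
    · have e1 : g m + m = φ m • e := by
        rw [k]
        have := addself m
        linear_combination (norm := module) this
      rw [e1]
      exact Submodule.mem_sup_left (Submodule.smul_mem _ _ (Submodule.subset_span (Ob.refl H e)))
    · obtain ⟨a, ha, c, hc, rfl⟩ := Submodule.mem_sup.mp hu
      rw [k, map_add, hU a ha, a1 c hc, add_zero, zero_smul, add_zero, addself]
      exact Submodule.zero_mem _
  rw [NN_bot hN hO, Subgroup.mem_bot] at hgN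
  apply h0
  ext m
  have h1 := k m
  rw [hgN] at h1
  have h2 : φ m • e = 0 := by
    have h3 : m = m + φ m • e := h1
    linear_combination (norm := module) -h3
  rcases z2 (φ m) with h | h
  · exact h
  · rw [h, one_smul] at h2; exact absurd h2 he

/-- **UNIQUE**: two centres `e, e + ν`, `ν ∈ C`, in one orbit -/
theorem unique [Finite M] (hN : Nm H D C) (hO : NoTwo H D) (hν : ν ∈ C) (ho : Ob H e (e + ν))
    {φ : M →ₗ[ZMod 2] ZMod 2} (hφ : φ ∈ Ph D C e) (h0 : φ ≠ 0) : ν = 0 := by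
  by_contra hν0
  have he : e ≠ 0 := by
    rintro rfl
    obtain ⟨h, -, hE⟩ := ho
    rw [map_zero, zero_add] at hE
    exact hν0 hE.symm
  have heν : e + ν ≠ 0 := by
    intro h
    rw [h] at ho
    obtain ⟨g, -, hE⟩ := ho
    exact he (g.map_eq_zero_iff.mp hE)
  -- no common functional
  have hcom : ∀ χ ∈ Ph D C e, χ ∈ Ph D C (e + ν) → χ = 0 := by
    intro χ h1 h2
    have h3 := ph_cent h1 h2
    have e2 : e + (e + ν) = ν := by
      have := addself e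
      linear_combination (norm := module) this
    rw [e2] at h3
    obtain ⟨a1, b1, g, hg, k⟩ := h3
    have e1 : ∀ m, g m + m = χ m • ν := fun m => by
      rw [k]
      have := addself m
      linear_combination (norm := module) this
    have hgN : g ∈ NN D C (Us H e) := by
      refine ⟨hg, fun m => ?_, fun u hu => ?_, fun c hc => by rw [k, a1 c hc, zero_smul, add_zero]⟩
      · rw [e1]; exact Submodule.mem_sup_right (C.smul_mem _ hν)
      · rw [e1]; exact C.smul_mem _ hν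
    rw [NN_bot hN hO, Subgroup.mem_bot] at hgN
    ext m
    have h5 := e1 m
    rw [hgN] at h5
    have h6 : χ m • ν = 0 := h5.symm.trans (addself m)
    rcases z2 (χ m) with h | h
    · exact h
    · rw [h, one_smul] at h6; exact absurd h6 hν0
  have hjν : ∀ d, Jn D C d e ↔ Jn D C d (e + ν) := by
    intro d
    constructor
    · rintro ⟨ψ, hψ, h⟩
      exact ⟨ψ, hψ, by rw [map_add, hψ.1 ν hν, add_zero, h]⟩
    · rintro ⟨ψ, hψ, h⟩
      refine ⟨ψ, hψ, ?_⟩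
      rw [map_add, hψ.1 ν hν, add_zero] at h
      exact h
  have hJ : ∀ d, Ob H e d → (Jn D C e d ↔ Jn D C (e + ν) d) := by
    intro d hd
    constructor
    · intro h
      exact ((hjν d).mp (h.symm hN hd)).symm hN (hd.symm.trans ho)
    · intro h
      exact ((hjν d).mpr (h.symm hN (ho.symm.trans hd))).symm hN hd.symm
  obtain ⟨d, hd, hφd⟩ := ex_joined hN hO he hφ h0
  have hJe : Jn D C e d := ⟨φ, hφ, hφd⟩
  have hJe' : Jn D C (e + ν) d := (hJ d hd).mp hJe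
  -- `Ph e` has one nonzero element
  have hz : ∀ χ ∈ Ph D C e, χ d = 0 → χ = 0 := by
    intro χ hχ hχd
    have h1 := ph_inter hN hd hJe hχ hχd
    have h2 : χ (e + ν) = 0 := by rw [map_add, hχ.2.1, hχ.1 ν hν, add_zero]
    exact hcom χ hχ (ph_inter hN (hd.symm.trans ho) (hJe'.symm hN (ho.symm.trans hd)) h1 h2)
  have hz' : ∀ χ ∈ Ph D C (e + ν), χ d = 0 → χ = 0 := by
    intro χ hχ hχd
    have h1 := ph_inter hN (ho.symm.trans hd) hJe' hχ hχd
    have h2 : χ e = 0 := by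
      have := hχ.2.1
      rwa [map_add, hχ.1 ν hν, add_zero] at this
    exact hcom χ (ph_inter hN hd.symm (hJe.symm hN hd) h1 h2) hχ
  obtain ⟨φ', hφ', hφ'd⟩ := hJe'
  have hu : ∀ χ ∈ Ph D C e, χ ≠ 0 → χ = φ := by
    intro χ hχ hχ0
    have h1 : χ d = 1 := (z2 (χ d)).resolve_left fun h => hχ0 (hz χ hχ h)
    exact feq_of_add (hz _ (ph_add hχ hφ) (by rw [LinearMap.add_apply, h1, hφd]; rfl))
  have hu' : ∀ χ ∈ Ph D C (e + ν), χ ≠ 0 → χ = φ' := by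
    intro χ hχ hχ0
    have h1 : χ d = 1 := (z2 (χ d)).resolve_left fun h => hχ0 (hz' χ hχ h)
    exact feq_of_add (hz' _ (ph_add hχ hφ') (by rw [LinearMap.add_apply, h1, hφ'd]; rfl))
  have hne : ∀ {χ : M →ₗ[ZMod 2] ZMod 2} {x : M}, χ x = 1 → χ ≠ 0 := by
    rintro χ x h rfl
    exact zero_ne_one h
  have hEq : ∀ x, Ob H e x → φ x = φ' x := by
    intro x hx
    rcases z2 (φ x) with h | h
    · rcases z2 (φ' x) with h' | h'
      · rw [h, h']
      · obtain ⟨χ, hχ, hχx⟩ := (hJ x hx).mpr ⟨φ', hφ', h'⟩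
        rw [hu χ hχ (hne hχx), h] at hχx
        exact absurd hχx zero_ne_one
    · obtain ⟨χ, hχ, hχx⟩ := (hJ x hx).mp ⟨φ, hφ, h⟩
      rw [hu' χ hχ (hne hχx)] at hχx
      rw [h, hχx]
  have hEqU : ∀ u ∈ Us H e, φ u = φ' u := by
    intro u hu
    induction hu using Submodule.span_induction with
    | mem x hx => exact hEq x hx
    | zero => rw [map_zero, map_zero]
    | add x y _ _ h1 h2 => rw [map_add, map_add, h1, h2]
    | smul a x _ h1 => rw [map_smul, map_smul, h1]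
  obtain ⟨a1, b1, g1, hg1, k1⟩ := hφ
  obtain ⟨a2, b2, g2, hg2, k2⟩ := hφ'
  have hφν : φ (e + ν) = 0 := by rw [map_add, b1, a1 ν hν, add_zero]
  have e1 : ∀ m, (g1 * g2) m + m = (φ m + φ' m) • e + φ' m • ν := by
    intro m
    show g1 (g2 m) + m = _
    rw [k2, k1, map_add, map_smul, hφν, smul_zero, add_zero]
    have := addself m
    linear_combination (norm := module) this
  have hgN : g1 * g2 ∈ NN D C (Us H e) := by
    refine ⟨D.mul_mem hg1 hg2, fun m => ?_, fun u hu => ?_, fun c hc => ?_⟩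
    · rw [e1]
      exact Submodule.add_mem_sup (Submodule.smul_mem _ _ (Submodule.subset_span (Ob.refl H e)))
        (C.smul_mem _ hν)
    · rw [e1]
      obtain ⟨a, ha, c, hc, rfl⟩ := Submodule.mem_sup.mp hu
      have h5 : φ (a + c) + φ' (a + c) = 0 := by
        rw [map_add, map_add, a1 c hc, a2 c hc, add_zero, add_zero, hEqU a ha, z2add]
      rw [h5, zero_smul, zero_add]
      exact C.smul_mem _ hν
    · have h5 := e1 c
      rw [a1 c hc, a2 c hc, add_zero, zero_smul, zero_smul, add_zero] at h5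
      exact eq_of_add_eq_zero' h5
  rw [NN_bot hN hO, Subgroup.mem_bot] at hgN
  have h6 := e1 d
  rw [hgN, hφd, hφ'd] at h6
  have h7 : (1 : M ≃ₗ[ZMod 2] M) d + d = 0 := addself d
  rw [h7, show (1 : ZMod 2) + 1 = 0 from rfl, zero_smul, one_smul, zero_add] at h6
  exact hν0 h6.symm

/-- **TRANS**: the elements of `D` fixing `e` are transitive on the orbit members joined to `e` -/
theorem trans [Finite M] (hN : Nm H D C) (hd : Ob H e d) (hd' : Ob H e d') (hj : Jn D C e d)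
    (hj' : Jn D C e d') : ∃ g ∈ D, g e = e ∧ g d = d' := by
  -- the joined case
  have main : ∀ d d' : M, Ob H e d → Ob H e d' → Jn D C e d → Jn D C e d' → Jn D C d' d →
      ∃ g ∈ D, g e = e ∧ g d = d' := by
    intro d d' hd hd' hj hj' hJ
    have hJ2 : Jn D C d d' := hJ.symm hN (hd'.symm.trans hd)
    have hsw : ∀ χ ∈ Ph D C d', ∀ ψ ∈ Ph D C d, χ d = 1 → ψ d' = 1 → χ e = ψ e →
        ∃ g ∈ D, g e = e ∧ g d = d' := by
      intro χ hχ ψ hψ h1 h2 h3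
      have h4 := ph_tv hN hχ hψ
      rw [h2, one_smul, h1, one_smul] at h4
      obtain ⟨-, -, g, hg, k⟩ := h4
      refine ⟨g, hg, ?_, ?_⟩
      · rw [k, LinearMap.add_apply, h3, z2add, zero_smul, add_zero]
      · rw [k, LinearMap.add_apply, hψ.2.1, h1, zero_add, one_smul]
        have := addself d
        linear_combination (norm := module) this
    obtain ⟨χ, hχ, hχd⟩ := hJ
    obtain ⟨ψ, hψ, hψd⟩ := hJ2
    by_cases hv : ∀ ξ ∈ Ph D C d, ξ d' = 0 → ξ e = 0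
    · -- constant, equal to 1
      have c1 : ψ e = 1 := by
        obtain ⟨ξ, hξ, hξe⟩ := hj.symm hN hd
        rcases z2 (ξ d') with h | h
        · rw [hv ξ hξ h] at hξe; exact absurd hξe zero_ne_one
        · have h1 := hv _ (ph_add hψ hξ) (by rw [LinearMap.add_apply, hψd, h]; rfl)
          rw [LinearMap.add_apply, hξe] at h1
          rcases z2 (ψ e) with h' | h'
          · rw [h'] at h1; simp at h1
          · exact h'
      have c2 : χ e = 1 := by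
        obtain ⟨ξ, hξ, hξe⟩ := hj'.symm hN hd'
        have hv' : ∀ ξ ∈ Ph D C d', ξ d = 0 → ξ e = 0 := fun ξ hξ h =>
          hv ξ (ph_inter hN (hd'.symm.trans hd) ⟨χ, hχ, hχd⟩ hξ h) hξ.2.1
        rcases z2 (ξ d) with h | h
        · rw [hv' ξ hξ h] at hξe; exact absurd hξe zero_ne_one
        · have h1 := hv' _ (ph_add hχ hξ) (by rw [LinearMap.add_apply, hχd, h]; rfl)
          rw [LinearMap.add_apply, hξe] at h1
          rcases z2 (χ e) with h' | h'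
          · rw [h'] at h1; simp at h1
          · exact h'
      exact hsw χ hχ ψ hψ hχd hψd (by rw [c1, c2])
    · push Not at hv
      obtain ⟨ξ, hξ, hξd, hξe⟩ := hv
      have hξe1 : ξ e = 1 := (z2 (ξ e)).resolve_left hξe
      rcases eq_or_ne (χ e) (ψ e) with h | h
      · exact hsw χ hχ ψ hψ hχd hψd h
      · refine hsw χ hχ (ψ + ξ) (ph_add hψ hξ) hχd (by rw [LinearMap.add_apply, hψd, hξd, add_zero]) ?_
        rw [LinearMap.add_apply, hξe1]
        rcases z2 (χ e) with h1 | h1 <;> rcases z2 (ψ e) with h2 | h2 <;> rw [h1, h2] at h ⊢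
        · exact absurd rfl h
        · rfl
        · rfl
        · exact absurd rfl h
  by_cases hJ : Jn D C d' d
  · exact main d d' hd hd' hj hj' hJ
  · obtain ⟨φ, hφ, hφd⟩ := hj
    obtain ⟨a1, b1, f, hf, k⟩ := id hφ
    have hfd : f d = d + e := by rw [k, hφd, one_smul]
    have hfe : f e = e := by rw [k, b1, zero_smul, add_zero]
    have hd2 : Ob H e (d + e) := hd.trans ⟨f, hN.DH hf, hfd⟩
    have hj2 : Jn D C e (d + e) := ⟨φ, hφ, by rw [map_add, hφd, b1, add_zero]⟩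
    obtain ⟨χ, hχ, hχe⟩ := hj'.symm hN hd'
    have hJ2 : Jn D C d' (d + e) := by
      refine ⟨χ, hχ, ?_⟩
      have h1 : χ d = 0 := (z2 (χ d)).resolve_right fun h => hJ ⟨χ, hχ, h⟩
      rw [map_add, h1, hχe, zero_add]
    obtain ⟨g, hg, hge, hgd⟩ := main (d + e) d' hd2 hd' hj2 hj' hJ2
    exact ⟨g * f, D.mul_mem hg hf, by show g (f e) = e; rw [hfe, hge], by show g (f d) = d'; rw [hfd, hgd]⟩

section hom

/-! The same for a group `Γ` acting through `ρ : Γ →* (M ≃ₗ M)` and a normal subgroup `Δ`. -/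

variable {Γ : Type*} [Group Γ] {ρ : Γ →* (M ≃ₗ[ZMod 2] M)} {Δ : Subgroup Γ} [Δ.Normal]

theorem nm_hom (hC : ∀ γ, ∀ c ∈ C, ρ γ c ∈ C) : Nm ρ.range (Δ.map ρ) C where
  nD := by
    rintro _ ⟨γ, rfl⟩ _ ⟨δ, hδ, rfl⟩
    exact ⟨γ * δ * γ⁻¹, Subgroup.Normal.conj_mem inferInstance δ hδ γ, by rw [map_mul, map_mul, map_inv]⟩
  nC := by
    rintro _ ⟨γ, rfl⟩ c hc
    exact hC γ c hc
  DH := by
    rintro _ ⟨δ, -, rfl⟩
    exact ⟨δ, rfl⟩

theorem ob_hom {γ : Γ} (h : ρ γ e = d) : Ob ρ.range e d := ⟨ρ γ, ⟨γ, rfl⟩, h⟩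

theorem ob_hom_iff : Ob ρ.range e d ↔ ∃ γ, ρ γ e = d :=
  ⟨by rintro ⟨_, ⟨γ, rfl⟩, h⟩; exact ⟨γ, h⟩, fun ⟨_, h⟩ => ob_hom h⟩

theorem mem_ph_hom {φ : M →ₗ[ZMod 2] ZMod 2} : φ ∈ Ph (Δ.map ρ) C e ↔
    (∀ c ∈ C, φ c = 0) ∧ φ e = 0 ∧ ∃ δ ∈ Δ, ∀ m, ρ δ m = m + φ m • e :=
  ⟨fun ⟨a, b, _, ⟨δ, hδ, hE⟩, k⟩ => ⟨a, b, δ, hδ, fun m => by rw [hE, k]⟩,
    fun ⟨a, b, δ, hδ, k⟩ => ⟨a, b, ρ δ, ⟨δ, hδ, rfl⟩, k⟩⟩

/-- `NoTwo` for the image of `Γ` gives it for every `Δ` -/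
theorem noTwo_hom (hO : ∀ N : Subgroup (M ≃ₗ[ZMod 2] M), N ≤ ρ.range → (∀ γ, ∀ g ∈ N, ρ γ * g * (ρ γ)⁻¹ ∈ N) →
    IsPGroup 2 N → N = ⊥) : NoTwo ρ.range (Δ.map ρ) := by
  intro N hN hc h2
  refine hO N (fun g hg => ?_) (fun γ g hg => hc _ ⟨γ, rfl⟩ g hg) h2
  obtain ⟨δ, -, rfl⟩ := hN hg
  exact ⟨δ, rfl⟩

theorem unique_hom [Finite M] (hC : ∀ γ, ∀ c ∈ C, ρ γ c ∈ C) (hO : NoTwo ρ.range (Δ.map ρ)) (hν : ν ∈ C)
    {γ : Γ} (ho : ρ γ e = e + ν) {φ : M →ₗ[ZMod 2] ZMod 2} (hφ : φ ∈ Ph (Δ.map ρ) C e) (h0 : φ ≠ 0) : ν = 0 :=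
  unique (nm_hom hC) hO hν (ob_hom ho) hφ h0

theorem trans_hom [Finite M] (hC : ∀ γ, ∀ c ∈ C, ρ γ c ∈ C) {γ γ' : Γ} (hd : ρ γ e = d) (hd' : ρ γ' e = d')
    (hj : Jn (Δ.map ρ) C e d) (hj' : Jn (Δ.map ρ) C e d') : ∃ δ ∈ Δ, ρ δ e = e ∧ ρ δ d = d' := by
  obtain ⟨_, ⟨δ, hδ, rfl⟩, h1, h2⟩ := trans (nm_hom (Δ := Δ) hC) (ob_hom hd) (ob_hom hd') hj hj'
  exact ⟨δ, hδ, h1, h2⟩

end hom

end Cfsg.Agent.Omega.NO3S.AB
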